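import Cfsg.Agent.Lib.Helper11.Fi24o.Model
import Cfsg.Agent.Lib.Helper11.Order
import Cfsg.Agent.Lib.Helper11.OrderW
import Cfsg.Agent.Lib.Helper11.Chunk

set_option autoImplicit false
set_option maxRecDepth 100000

namespace Cfsg.Agent.Lib.Helper11.Fi24o

open Cfsg.Spor Cfsg.Spor.Fi24 Cfsg.Agent.Lib.Helper11.Fi24a

set_option maxHeartbeats 0
set_option Elab.async false

noncomputable def mnets : List (List (ℕ × ℕ)) := [[(mk13_0, 262144), (mk13_1, 131072), (mk13_2, 65536), (mk13_3, 32768), (mk13_4, 16384), (mk13_5, 8192), (mk13_6, 4096), (mk13_7, 2048), (mk13_8, 1024), (mk13_9, 512), (mk13_10, 256), (mk13_11, 128), (mk13_12, 64), (mk13_13, 32), (mk13_14, 16), (mk13_15, 8), (mk13_16, 4), (mk13_17, 2), (mk13_18, 1), (mk13_19, 2), (mk13_20, 4), (mk13_21, 8), (mk13_22, 16), (mk13_23, 32), (mk13_24, 64), (mk13_25, 128), (mk13_26,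 256), (mk13_27, 512), (mk13_28, 1024), (mk13_29, 2048), (mk13_30, 4096), (mk13_31, 8192), (mk13_32, 16384), (mk13_33, 32768), (mk13_34, 65536), (mk13_35, 131072), (mk13_36, 262144)], [(mk14_0, 262144), (mk14_1, 131072), (mk14_2, 65536), (mk14_3, 32768), (mk14_4, 16384), (mk14_5, 8192), (mk14_6, 4096), (mk14_7, 2048), (mk14_8, 1024), (mk14_9, 512), (mk14_10, 256), (mk14_11, 128), (mk14_12, 64), (mk14_13, 32), (mk14_14, 16), (mk14_15, 8), (mk14_16, 4), (mk14_17, 2), (mk14_18, 1), (mk14_19, 2), (mk14_20, 4), (mk14_21, 8), (mk14_22, 16), (mk14_23, 32), (mk14_24, 64), (mk14_25, 128), (mk14_26, 256), (mk14_27, 512), (mk14_28, 1024), (mk14_29, 2048), (mk14_30, 4096), (mk14_31, 8192), (mk14_32, 16384), (mk14_33, 32768), (mk14_34, 65536), (mk14_35, 131072), (mk14_36, 262144)], [(mk15_0, 262144), (mk15_1, 131072), (mk15_2, 65536), (mk15_3,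 32768), (mk15_4, 16384), (mk15_5, 8192), (mk15_6, 4096), (mk15_7, 2048), (mk15_8, 1024), (mk15_9, 512), (mk15_10, 256), (mk15_11, 128), (mk15_12, 64), (mk15_13, 32), (mk15_14, 16), (mk15_15, 8), (mk15_16, 4), (mk15_17, 2), (mk15_18, 1), (mk15_19, 2), (mk15_20, 4), (mk15_21, 8), (mk15_22, 16), (mk15_23, 32), (mk15_24, 64), (mk15_25, 128), (mk15_26, 256), (mk15_27, 512), (mk15_28, 1024), (mk15_29, 2048), (mk15_30, 4096), (mk15_31, 8192), (mk15_32, 16384), (mk15_33, 32768), (mk15_34, 65536), (mk15_35, 131072), (mk15_36, 262144)], [(mk16_0, 262144), (mk16_1, 131072), (mk16_2, 65536), (mk16_3, 32768), (mk16_4, 16384), (mk16_5, 8192), (mk16_6, 4096), (mk16_7, 2048), (mk16_8, 1024), (mk16_9, 512), (mk16_10, 256), (mk16_11, 128), (mk16_12, 64), (mk16_13, 32), (mk16_14, 16), (mk16_15, 8), (mk16_16, 4), (mk16_17, 2), (mk16_18, 1), (mk16_19,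 2), (mk16_20, 4), (mk16_21, 8), (mk16_22, 16), (mk16_23, 32), (mk16_24, 64), (mk16_25, 128), (mk16_26, 256), (mk16_27, 512), (mk16_28, 1024), (mk16_29, 2048), (mk16_30, 4096), (mk16_31, 8192), (mk16_32, 16384), (mk16_33, 32768), (mk16_34, 65536), (mk16_35, 131072), (mk16_36, 262144)], [(mk17_0, 262144), (mk17_1, 131072), (mk17_2, 65536), (mk17_3, 32768), (mk17_4, 16384), (mk17_5, 8192), (mk17_6, 4096), (mk17_7, 2048), (mk17_8, 1024), (mk17_9, 512), (mk17_10, 256), (mk17_11, 128), (mk17_12, 64), (mk17_13, 32), (mk17_14, 16), (mk17_15, 8), (mk17_16, 4), (mk17_17, 2), (mk17_18, 1), (mk17_19, 2), (mk17_20, 4), (mk17_21, 8), (mk17_22, 16), (mk17_23, 32), (mk17_24, 64), (mk17_25, 128), (mk17_26, 256), (mk17_27, 512), (mk17_28, 1024), (mk17_29, 2048), (mk17_30, 4096), (mk17_31, 8192), (mk17_32, 16384), (mk17_33, 32768), (mk17_34,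 65536), (mk17_35, 131072), (mk17_36, 262144)], [(mk18_0, 262144), (mk18_1, 131072), (mk18_2, 65536), (mk18_3, 32768), (mk18_4, 16384), (mk18_5, 8192), (mk18_6, 4096), (mk18_7, 2048), (mk18_8, 1024), (mk18_9, 512), (mk18_10, 256), (mk18_11, 128), (mk18_12, 64), (mk18_13, 32), (mk18_14, 16), (mk18_15, 8), (mk18_16, 4), (mk18_17, 2), (mk18_18, 1), (mk18_19, 2), (mk18_20, 4), (mk18_21, 8), (mk18_22, 16), (mk18_23, 32), (mk18_24, 64), (mk18_25, 128), (mk18_26, 256), (mk18_27, 512), (mk18_28, 1024), (mk18_29, 2048), (mk18_30, 4096), (mk18_31, 8192), (mk18_32, 16384), (mk18_33, 32768), (mk18_34, 65536), (mk18_35, 131072), (mk18_36, 262144)], [(mk19_0, 262144), (mk19_1, 131072), (mk19_2, 65536), (mk19_3, 32768), (mk19_4, 16384), (mk19_5, 8192), (mk19_6, 4096), (mk19_7, 2048), (mk19_8, 1024), (mk19_9, 512), (mk19_10, 256), (mk19_11,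 128), (mk19_12, 64), (mk19_13, 32), (mk19_14, 16), (mk19_15, 8), (mk19_16, 4), (mk19_17, 2), (mk19_18, 1), (mk19_19, 2), (mk19_20, 4), (mk19_21, 8), (mk19_22, 16), (mk19_23, 32), (mk19_24, 64), (mk19_25, 128), (mk19_26, 256), (mk19_27, 512), (mk19_28, 1024), (mk19_29, 2048), (mk19_30, 4096), (mk19_31, 8192), (mk19_32, 16384), (mk19_33, 32768), (mk19_34, 65536), (mk19_35, 131072), (mk19_36, 262144)], [(mk20_0, 262144), (mk20_1, 131072), (mk20_2, 65536), (mk20_3, 32768), (mk20_4, 16384), (mk20_5, 8192), (mk20_6, 4096), (mk20_7, 2048), (mk20_8, 1024), (mk20_9, 512), (mk20_10, 256), (mk20_11, 128), (mk20_12, 64), (mk20_13, 32), (mk20_14, 16), (mk20_15, 8), (mk20_16, 4), (mk20_17, 2), (mk20_18, 1), (mk20_19, 2), (mk20_20, 4), (mk20_21, 8), (mk20_22, 16), (mk20_23, 32), (mk20_24, 64), (mk20_25, 128), (mk20_26, 256), (mk20_27, 512),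 (mk20_28, 1024), (mk20_29, 2048), (mk20_30, 4096), (mk20_31, 8192), (mk20_32, 16384), (mk20_33, 32768), (mk20_34, 65536), (mk20_35, 131072), (mk20_36, 262144)], [(mk21_0, 262144), (mk21_1, 131072), (mk21_2, 65536), (mk21_3, 32768), (mk21_4, 16384), (mk21_5, 8192), (mk21_6, 4096), (mk21_7, 2048), (mk21_8, 1024), (mk21_9, 512), (mk21_10, 256), (mk21_11, 128), (mk21_12, 64), (mk21_13, 32), (mk21_14, 16), (mk21_15, 8), (mk21_16, 4), (mk21_17, 2), (mk21_18, 1), (mk21_19, 2), (mk21_20, 4), (mk21_21, 8), (mk21_22, 16), (mk21_23, 32), (mk21_24, 64), (mk21_25, 128), (mk21_26, 256), (mk21_27, 512), (mk21_28, 1024), (mk21_29, 2048), (mk21_30, 4096), (mk21_31, 8192), (mk21_32, 16384), (mk21_33, 32768), (mk21_34, 65536), (mk21_35, 131072), (mk21_36, 262144)], [(mk22_0, 262144), (mk22_1, 131072), (mk22_2, 65536), (mk22_3, 32768), (mk22_4,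 16384), (mk22_5, 8192), (mk22_6, 4096), (mk22_7, 2048), (mk22_8, 1024), (mk22_9, 512), (mk22_10, 256), (mk22_11, 128), (mk22_12, 64), (mk22_13, 32), (mk22_14, 16), (mk22_15, 8), (mk22_16, 4), (mk22_17, 2), (mk22_18, 1), (mk22_19, 2), (mk22_20, 4), (mk22_21, 8), (mk22_22, 16), (mk22_23, 32), (mk22_24, 64), (mk22_25, 128), (mk22_26, 256), (mk22_27, 512), (mk22_28, 1024), (mk22_29, 2048), (mk22_30, 4096), (mk22_31, 8192), (mk22_32, 16384), (mk22_33, 32768), (mk22_34, 65536), (mk22_35, 131072), (mk22_36, 262144)], [(mk23_0, 262144), (mk23_1, 131072), (mk23_2, 65536), (mk23_3, 32768), (mk23_4, 16384), (mk23_5, 8192), (mk23_6, 4096), (mk23_7, 2048), (mk23_8, 1024), (mk23_9, 512), (mk23_10, 256), (mk23_11, 128), (mk23_12, 64), (mk23_13, 32), (mk23_14, 16), (mk23_15, 8), (mk23_16, 4), (mk23_17, 2), (mk23_18, 1), (mk23_19, 2), (mk23_20,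 4), (mk23_21, 8), (mk23_22, 16), (mk23_23, 32), (mk23_24, 64), (mk23_25, 128), (mk23_26, 256), (mk23_27, 512), (mk23_28, 1024), (mk23_29, 2048), (mk23_30, 4096), (mk23_31, 8192), (mk23_32, 16384), (mk23_33, 32768), (mk23_34, 65536), (mk23_35, 131072), (mk23_36, 262144)], [(mk24_0, 262144), (mk24_1, 131072), (mk24_2, 65536), (mk24_3, 32768), (mk24_4, 16384), (mk24_5, 8192), (mk24_6, 4096), (mk24_7, 2048), (mk24_8, 1024), (mk24_9, 512), (mk24_10, 256), (mk24_11, 128), (mk24_12, 64), (mk24_13, 32), (mk24_14, 16), (mk24_15, 8), (mk24_16, 4), (mk24_17, 2), (mk24_18, 1), (mk24_19, 2), (mk24_20, 4), (mk24_21, 8), (mk24_22, 16), (mk24_23, 32), (mk24_24, 64), (mk24_25, 128), (mk24_26, 256), (mk24_27, 512), (mk24_28, 1024), (mk24_29, 2048), (mk24_30, 4096), (mk24_31, 8192), (mk24_32, 16384), (mk24_33, 32768), (mk24_34, 65536), (mk24_35,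 131072), (mk24_36, 262144)], [(mk25_0, 262144), (mk25_1, 131072), (mk25_2, 65536), (mk25_3, 32768), (mk25_4, 16384), (mk25_5, 8192), (mk25_6, 4096), (mk25_7, 2048), (mk25_8, 1024), (mk25_9, 512), (mk25_10, 256), (mk25_11, 128), (mk25_12, 64), (mk25_13, 32), (mk25_14, 16), (mk25_15, 8), (mk25_16, 4), (mk25_17, 2), (mk25_18, 1), (mk25_19, 2), (mk25_20, 4), (mk25_21, 8), (mk25_22, 16), (mk25_23, 32), (mk25_24, 64), (mk25_25, 128), (mk25_26, 256), (mk25_27, 512), (mk25_28, 1024), (mk25_29, 2048), (mk25_30, 4096), (mk25_31, 8192), (mk25_32, 16384), (mk25_33, 32768), (mk25_34, 65536), (mk25_35, 131072), (mk25_36, 262144)], [(mk26_0, 262144), (mk26_1, 131072), (mk26_2, 65536), (mk26_3, 32768), (mk26_4, 16384), (mk26_5, 8192), (mk26_6, 4096), (mk26_7, 2048), (mk26_8, 1024), (mk26_9, 512), (mk26_10, 256), (mk26_11, 128), (mk26_12,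 64), (mk26_13, 32), (mk26_14, 16), (mk26_15, 8), (mk26_16, 4), (mk26_17, 2), (mk26_18, 1), (mk26_19, 2), (mk26_20, 4), (mk26_21, 8), (mk26_22, 16), (mk26_23, 32), (mk26_24, 64), (mk26_25, 128), (mk26_26, 256), (mk26_27, 512), (mk26_28, 1024), (mk26_29, 2048), (mk26_30, 4096), (mk26_31, 8192), (mk26_32, 16384), (mk26_33, 32768), (mk26_34, 65536), (mk26_35, 131072), (mk26_36, 262144)]]
noncomputable def ntl2 : List (List (ℕ × ℕ)) := ntl ++ mnets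
def macs : List (List ℕ) := [
  [3, 4, 5, 6, 7, 8, 9, 11, 6, 5, 7, 8, 12, 11, 6, 5, 4, 7, 6, 5, 8, 11, 6, 7, 8, 12, 11, 6, 10, 9, 8, 7, 1, 10, 7, 8, 9, 10, 7, 6, 11, 8, 5, 6, 7, 4, 5, 6, 11, 12, 6, 11, 7, 8, 6, 7, 3, 4, 5, 6, 11, 9, 8, 7, 6, 5, 4, 3],
  [3, 4, 5, 6, 7, 8, 9, 11, 6, 5, 4, 3, 7, 6, 5, 8, 12, 11, 6, 5, 4, 3, 7, 6, 5, 4, 8, 11, 6, 5, 7, 12, 11, 6, 5, 10, 9, 8, 7, 6, 5, 4, 11, 4, 5, 6, 7, 8, 9, 10, 5, 6, 11, 12, 7, 5, 6, 11, 8, 4, 5, 6, 7, 3, 4, 5, 6, 11, 12, 8, 5, 6, 7, 3, 4, 5, 6, 11, 9, 8, 7, 6, 5, 4, 3],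
  [3, 4, 5, 6, 7, 8, 9, 11, 6, 5, 4, 7, 6, 8, 11, 12, 11, 6, 5, 4, 3, 7, 6, 5, 8, 7, 11, 6, 5, 7, 12, 11, 10, 9, 8, 7, 6, 5, 14, 4, 5, 6, 11, 3, 4, 5, 6, 7, 8, 9, 10, 12, 11, 6, 7, 8, 5, 6, 7, 3, 4, 5, 6, 11, 12, 6, 7, 3, 4, 5, 6, 11, 9, 8, 7, 6, 5, 4, 3],
  [15, 15, 15, 13, 13, 15, 13, 13, 15, 13, 15, 13, 13, 14, 15, 15, 14, 13, 15, 14, 15, 13, 13, 13, 15, 13],
  [15, 15, 15, 15, 15, 13, 13, 13, 14, 15, 15, 14, 15, 14, 13, 13, 13, 15, 13, 13, 13, 13, 15, 15, 14, 13, 13, 13, 15],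
  [15, 13, 15, 15, 15, 15, 13, 13, 13, 13, 13, 15, 15, 15, 15, 16, 13, 15, 15, 13, 13, 13, 15, 13, 13, 15, 13, 15, 13, 13],
  [18, 17, 18, 16, 16, 18, 16, 17, 17, 16, 17, 17, 16, 18, 16, 18, 17, 16, 18, 17, 17],
  [17, 17, 16, 18, 18, 16, 16, 17, 17, 17, 19, 16, 17, 17, 16, 16, 17, 18, 18, 17, 17, 17, 16],
  [18, 17, 18, 17, 16, 16, 18, 18, 16, 16, 17, 16, 18, 18, 16, 18, 18, 17, 16, 18, 16],
  [3, 4, 14, 15, 5, 19, 17, 21, 9, 5, 19, 3],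
  [13, 19, 22, 19, 13, 18, 18, 15, 20, 18, 21, 18, 13],
  [18, 17, 19, 18, 17, 18, 18, 21, 21, 20, 18, 17, 16],
  [3, 4, 22, 21, 21, 24, 3, 19, 7, 17, 11, 3, 16, 13, 3],
  [13, 21, 21, 23, 18, 15, 13, 16, 22]]
def lv0 : List (List ℕ) × ℕ × ℕ × ℕ × ℕ := ([[1], [2], [3], [4], [5], [6], [7], [8], [9], [10], [11], [12]], 9, 0, 0, 306936)
def lv1 : List (List ℕ) × ℕ × ℕ × ℕ × ℕ := ([[3], [4], [5], [6], [7], [8], [9], [11], [12], [10], [1], [13], [14], [15], [22], [25], [16], [17], [18], [23], [26], [19], [20], [21], [24]], 2, 1, 1, 275264)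
def lv2 : List (List ℕ) × ℕ × ℕ × ℕ × ℕ := ([[13], [14], [15], [22], [25], [16], [17], [18], [23], [26], [19], [20], [21], [24]], 3, 56865, 56865, 218400)
def lv3 : List (List ℕ) × ℕ × ℕ × ℕ × ℕ := ([[16], [17], [18], [23], [26], [19], [20], [21], [24]], 3, 181953, 181953, 93312)
def lv4 : List (List ℕ) × ℕ × ℕ × ℕ × ℕ := ([[19], [20], [21], [24]], 3, 3, 3, 243)
def lv5 : List (List ℕ) × ℕ × ℕ × ℕ × ℕ := ([[20, 24, 20, 19, 20, 19, 24, 21]], 2, 246, 246, 3)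
def lv6 : List (List ℕ) × ℕ × ℕ × ℕ × ℕ := ([[19, 23, 17, 26, 20, 19, 18, 20, 24, 20, 19, 20, 19, 24, 21, 26, 17, 26, 19, 17, 19, 20, 24, 20, 19, 20, 19, 24, 21, 20, 23, 17, 26, 20, 19, 18, 20, 24, 20, 19, 20, 19, 24, 21, 26, 17, 26, 19, 17, 20, 24, 20, 19, 20, 19, 24, 21, 23, 17, 26, 20, 19, 18, 20, 24, 20, 19, 20, 19, 24, 21, 26, 17, 26, 19, 17, 24]], 1, 6321, 6321, 2)
def levels : List (List (List ℕ) × ℕ × ℕ × ℕ × ℕ) := [lv0, lv1, lv2, lv3, lv4, lv5, lv6]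

theorem nets2OK : ntl2.all (fun net => net.all (stOK (2 ^ (2 ^ 19)))) = true := by decide +kernel
def macTasks : List (List (List ℕ × List ℕ) × List ℕ) := [
  ([([13], [3, 4, 5, 6, 7, 8, 9, 11, 6, 5, 7, 8, 12, 11, 6, 5, 4, 7, 6, 5, 8, 11, 6, 7, 8, 12, 11, 6, 10, 9, 8, 7, 1, 10, 7, 8, 9, 10, 7, 6, 11, 8, 5, 6, 7, 4, 5, 6, 11, 12, 6, 11, 7, 8, 6, 7, 3, 4, 5, 6, 11, 9, 8, 7, 6, 5, 4, 3])], [0, 1]),
  ([([13], [3, 4, 5, 6, 7, 8, 9, 11, 6, 5, 7, 8, 12, 11, 6, 5, 4, 7, 6, 5, 8, 11, 6, 7, 8, 12, 11, 6, 10, 9, 8, 7, 1, 10, 7, 8, 9, 10, 7, 6, 11, 8, 5, 6, 7, 4, 5, 6, 11, 12, 6, 11, 7, 8, 6, 7, 3, 4, 5, 6, 11, 9, 8, 7, 6, 5, 4, 3])], [2, 3]),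
  ([([13], [3, 4, 5, 6, 7, 8, 9, 11, 6, 5, 7, 8, 12, 11, 6, 5, 4, 7, 6, 5, 8, 11, 6, 7, 8, 12, 11, 6, 10, 9, 8, 7, 1, 10, 7, 8, 9, 10, 7, 6, 11, 8, 5, 6, 7, 4, 5, 6, 11, 12, 6, 11, 7, 8, 6, 7, 3, 4, 5, 6, 11, 9, 8, 7, 6, 5, 4, 3])], [4, 5]),
  ([([13], [3, 4, 5, 6, 7, 8, 9, 11, 6, 5, 7, 8, 12, 11, 6, 5, 4, 7, 6, 5, 8, 11, 6, 7, 8, 12, 11, 6, 10, 9, 8, 7, 1, 10, 7, 8, 9, 10, 7, 6, 11, 8, 5, 6, 7, 4, 5, 6, 11, 12, 6, 11, 7, 8, 6, 7, 3, 4, 5, 6, 11, 9, 8, 7, 6, 5, 4, 3])], [6, 7]),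
  ([([13], [3, 4, 5, 6, 7, 8, 9, 11, 6, 5, 7, 8, 12, 11, 6, 5, 4, 7, 6, 5, 8, 11, 6, 7, 8, 12, 11, 6, 10, 9, 8, 7, 1, 10, 7, 8, 9, 10, 7, 6, 11, 8, 5, 6, 7, 4, 5, 6, 11, 12, 6, 11, 7, 8, 6, 7, 3, 4, 5, 6, 11, 9, 8, 7, 6, 5, 4, 3])], [8, 9]),
  ([([13], [3, 4, 5, 6, 7, 8, 9, 11, 6, 5, 7, 8, 12, 11, 6, 5, 4, 7, 6, 5, 8, 11, 6, 7, 8, 12, 11, 6, 10, 9, 8, 7, 1, 10, 7, 8, 9, 10, 7, 6, 11, 8, 5, 6, 7, 4, 5, 6, 11, 12, 6, 11, 7, 8, 6, 7, 3, 4, 5, 6, 11, 9, 8, 7, 6, 5, 4, 3])], [10, 11]),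
  ([([13], [3, 4, 5, 6, 7, 8, 9, 11, 6, 5, 7, 8, 12, 11, 6, 5, 4, 7, 6, 5, 8, 11, 6, 7, 8, 12, 11, 6, 10, 9, 8, 7, 1, 10, 7, 8, 9, 10, 7, 6, 11, 8, 5, 6, 7, 4, 5, 6, 11, 12, 6, 11, 7, 8, 6, 7, 3, 4, 5, 6, 11, 9, 8, 7, 6, 5, 4, 3])], [12, 13]),
  ([([13], [3, 4, 5, 6, 7, 8, 9, 11, 6, 5, 7, 8, 12, 11, 6, 5, 4, 7, 6, 5, 8, 11, 6, 7, 8, 12, 11, 6, 10, 9, 8, 7, 1, 10, 7, 8, 9, 10, 7, 6, 11, 8, 5, 6, 7, 4, 5, 6, 11, 12, 6, 11, 7, 8, 6, 7, 3, 4, 5, 6, 11, 9, 8, 7, 6, 5, 4, 3])], [14, 15]),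
  ([([13], [3, 4, 5, 6, 7, 8, 9, 11, 6, 5, 7, 8, 12, 11, 6, 5, 4, 7, 6, 5, 8, 11, 6, 7, 8, 12, 11, 6, 10, 9, 8, 7, 1, 10, 7, 8, 9, 10, 7, 6, 11, 8, 5, 6, 7, 4, 5, 6, 11, 12, 6, 11, 7, 8, 6, 7, 3, 4, 5, 6, 11, 9, 8, 7, 6, 5, 4, 3])], [16, 17]),
  ([([13], [3, 4, 5, 6, 7, 8, 9, 11, 6, 5, 7, 8, 12, 11, 6, 5, 4, 7, 6, 5, 8, 11, 6, 7, 8, 12, 11, 6, 10, 9, 8, 7, 1, 10, 7, 8, 9, 10, 7, 6, 11, 8, 5, 6, 7, 4, 5, 6, 11, 12, 6, 11, 7, 8, 6, 7, 3, 4, 5, 6, 11, 9, 8, 7, 6, 5, 4, 3])], [18]),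
  ([([14], [3, 4, 5, 6, 7, 8, 9, 11, 6, 5, 4, 3, 7, 6, 5, 8, 12, 11, 6, 5, 4, 3, 7, 6, 5, 4, 8, 11, 6, 5, 7, 12, 11, 6, 5, 10, 9, 8, 7, 6, 5, 4, 11, 4, 5, 6, 7, 8, 9, 10, 5, 6, 11, 12, 7, 5, 6, 11, 8, 4, 5, 6, 7, 3, 4, 5, 6, 11, 12, 8, 5, 6, 7, 3, 4, 5, 6, 11, 9, 8, 7, 6, 5, 4, 3])], [0]),
  ([([14], [3, 4, 5, 6, 7, 8, 9, 11, 6, 5, 4, 3, 7, 6, 5, 8, 12, 11, 6, 5, 4, 3, 7, 6, 5, 4, 8, 11, 6, 5, 7, 12, 11, 6, 5, 10, 9, 8, 7, 6, 5, 4, 11, 4, 5, 6, 7, 8, 9, 10, 5, 6, 11, 12, 7, 5, 6, 11, 8, 4, 5, 6, 7, 3, 4, 5, 6, 11, 12, 8, 5, 6, 7, 3, 4, 5, 6, 11, 9, 8, 7, 6, 5, 4, 3])], [1]),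
  ([([14], [3, 4, 5, 6, 7, 8, 9, 11, 6, 5, 4, 3, 7, 6, 5, 8, 12, 11, 6, 5, 4, 3, 7, 6, 5, 4, 8, 11, 6, 5, 7, 12, 11, 6, 5, 10, 9, 8, 7, 6, 5, 4, 11, 4, 5, 6, 7, 8, 9, 10, 5, 6, 11, 12, 7, 5, 6, 11, 8, 4, 5, 6, 7, 3, 4, 5, 6, 11, 12, 8, 5, 6, 7, 3, 4, 5, 6, 11, 9, 8, 7, 6, 5, 4, 3])], [2]),
  ([([14], [3, 4, 5, 6, 7, 8, 9, 11, 6, 5, 4, 3, 7, 6, 5, 8, 12, 11, 6, 5, 4, 3, 7, 6, 5, 4, 8, 11, 6, 5, 7, 12, 11, 6, 5, 10, 9, 8, 7, 6, 5, 4, 11, 4, 5, 6, 7, 8, 9, 10, 5, 6, 11, 12, 7, 5, 6, 11, 8, 4, 5, 6, 7, 3, 4, 5, 6, 11, 12, 8, 5, 6, 7, 3, 4, 5, 6, 11, 9, 8, 7, 6, 5, 4, 3])], [3]),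
  ([([14], [3, 4, 5, 6, 7, 8, 9, 11, 6, 5, 4, 3, 7, 6, 5, 8, 12, 11, 6, 5, 4, 3, 7, 6, 5, 4, 8, 11, 6, 5, 7, 12, 11, 6, 5, 10, 9, 8, 7, 6, 5, 4, 11, 4, 5, 6, 7, 8, 9, 10, 5, 6, 11, 12, 7, 5, 6, 11, 8, 4, 5, 6, 7, 3, 4, 5, 6, 11, 12, 8, 5, 6, 7, 3, 4, 5, 6, 11, 9, 8, 7, 6, 5, 4, 3])], [4]),
  ([([14], [3, 4, 5, 6, 7, 8, 9, 11, 6, 5, 4, 3, 7, 6, 5, 8, 12, 11, 6, 5, 4, 3, 7, 6, 5, 4, 8, 11, 6, 5, 7, 12, 11, 6, 5, 10, 9, 8, 7, 6, 5, 4, 11, 4, 5, 6, 7, 8, 9, 10, 5, 6, 11, 12, 7, 5, 6, 11, 8, 4, 5, 6, 7, 3, 4, 5, 6, 11, 12, 8, 5, 6, 7, 3, 4, 5, 6, 11, 9, 8, 7, 6, 5, 4, 3])], [5]),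
  ([([14], [3, 4, 5, 6, 7, 8, 9, 11, 6, 5, 4, 3, 7, 6, 5, 8, 12, 11, 6, 5, 4, 3, 7, 6, 5, 4, 8, 11, 6, 5, 7, 12, 11, 6, 5, 10, 9, 8, 7, 6, 5, 4, 11, 4, 5, 6, 7, 8, 9, 10, 5, 6, 11, 12, 7, 5, 6, 11, 8, 4, 5, 6, 7, 3, 4, 5, 6, 11, 12, 8, 5, 6, 7, 3, 4, 5, 6, 11, 9, 8, 7, 6, 5, 4, 3])], [6]),
  ([([14], [3, 4, 5, 6, 7, 8, 9, 11, 6, 5, 4, 3, 7, 6, 5, 8, 12, 11, 6, 5, 4, 3, 7, 6, 5, 4, 8, 11, 6, 5, 7, 12, 11, 6, 5, 10, 9, 8, 7, 6, 5, 4, 11, 4, 5, 6, 7, 8, 9, 10, 5, 6, 11, 12, 7, 5, 6, 11, 8, 4, 5, 6, 7, 3, 4, 5, 6, 11, 12, 8, 5, 6, 7, 3, 4, 5, 6, 11, 9, 8, 7, 6, 5, 4, 3])], [7]),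
  ([([14], [3, 4, 5, 6, 7, 8, 9, 11, 6, 5, 4, 3, 7, 6, 5, 8, 12, 11, 6, 5, 4, 3, 7, 6, 5, 4, 8, 11, 6, 5, 7, 12, 11, 6, 5, 10, 9, 8, 7, 6, 5, 4, 11, 4, 5, 6, 7, 8, 9, 10, 5, 6, 11, 12, 7, 5, 6, 11, 8, 4, 5, 6, 7, 3, 4, 5, 6, 11, 12, 8, 5, 6, 7, 3, 4, 5, 6, 11, 9, 8, 7, 6, 5, 4, 3])], [8]),
  ([([14], [3, 4, 5, 6, 7, 8, 9, 11, 6, 5, 4, 3, 7, 6, 5, 8, 12, 11, 6, 5, 4, 3, 7, 6, 5, 4, 8, 11, 6, 5, 7, 12, 11, 6, 5, 10, 9, 8, 7, 6, 5, 4, 11, 4, 5, 6, 7, 8, 9, 10, 5, 6, 11, 12, 7, 5, 6, 11, 8, 4, 5, 6, 7, 3, 4, 5, 6, 11, 12, 8, 5, 6, 7, 3, 4, 5, 6, 11, 9, 8, 7, 6, 5, 4, 3])], [9]),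
  ([([14], [3, 4, 5, 6, 7, 8, 9, 11, 6, 5, 4, 3, 7, 6, 5, 8, 12, 11, 6, 5, 4, 3, 7, 6, 5, 4, 8, 11, 6, 5, 7, 12, 11, 6, 5, 10, 9, 8, 7, 6, 5, 4, 11, 4, 5, 6, 7, 8, 9, 10, 5, 6, 11, 12, 7, 5, 6, 11, 8, 4, 5, 6, 7, 3, 4, 5, 6, 11, 12, 8, 5, 6, 7, 3, 4, 5, 6, 11, 9, 8, 7, 6, 5, 4, 3])], [10]),
  ([([14], [3, 4, 5, 6, 7, 8, 9, 11, 6, 5, 4, 3, 7, 6, 5, 8, 12, 11, 6, 5, 4, 3, 7, 6, 5, 4, 8, 11, 6, 5, 7, 12, 11, 6, 5, 10, 9, 8, 7, 6, 5, 4, 11, 4, 5, 6, 7, 8, 9, 10, 5, 6, 11, 12, 7, 5, 6, 11, 8, 4, 5, 6, 7, 3, 4, 5, 6, 11, 12, 8, 5, 6, 7, 3, 4, 5, 6, 11, 9, 8, 7, 6, 5, 4, 3])], [11]),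
  ([([14], [3, 4, 5, 6, 7, 8, 9, 11, 6, 5, 4, 3, 7, 6, 5, 8, 12, 11, 6, 5, 4, 3, 7, 6, 5, 4, 8, 11, 6, 5, 7, 12, 11, 6, 5, 10, 9, 8, 7, 6, 5, 4, 11, 4, 5, 6, 7, 8, 9, 10, 5, 6, 11, 12, 7, 5, 6, 11, 8, 4, 5, 6, 7, 3, 4, 5, 6, 11, 12, 8, 5, 6, 7, 3, 4, 5, 6, 11, 9, 8, 7, 6, 5, 4, 3])], [12]),
  ([([14], [3, 4, 5, 6, 7, 8, 9, 11, 6, 5, 4, 3, 7, 6, 5, 8, 12, 11, 6, 5, 4, 3, 7, 6, 5, 4, 8, 11, 6, 5, 7, 12, 11, 6, 5, 10, 9, 8, 7, 6, 5, 4, 11, 4, 5, 6, 7, 8, 9, 10, 5, 6, 11, 12, 7, 5, 6, 11, 8, 4, 5, 6, 7, 3, 4, 5, 6, 11, 12, 8, 5, 6, 7, 3, 4, 5, 6, 11, 9, 8, 7, 6, 5, 4, 3])], [13]),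
  ([([14], [3, 4, 5, 6, 7, 8, 9, 11, 6, 5, 4, 3, 7, 6, 5, 8, 12, 11, 6, 5, 4, 3, 7, 6, 5, 4, 8, 11, 6, 5, 7, 12, 11, 6, 5, 10, 9, 8, 7, 6, 5, 4, 11, 4, 5, 6, 7, 8, 9, 10, 5, 6, 11, 12, 7, 5, 6, 11, 8, 4, 5, 6, 7, 3, 4, 5, 6, 11, 12, 8, 5, 6, 7, 3, 4, 5, 6, 11, 9, 8, 7, 6, 5, 4, 3])], [14]),
  ([([14], [3, 4, 5, 6, 7, 8, 9, 11, 6, 5, 4, 3, 7, 6, 5, 8, 12, 11, 6, 5, 4, 3, 7, 6, 5, 4, 8, 11, 6, 5, 7, 12, 11, 6, 5, 10, 9, 8, 7, 6, 5, 4, 11, 4, 5, 6, 7, 8, 9, 10, 5, 6, 11, 12, 7, 5, 6, 11, 8, 4, 5, 6, 7, 3, 4, 5, 6, 11, 12, 8, 5, 6, 7, 3, 4, 5, 6, 11, 9, 8, 7, 6, 5, 4, 3])], [15]),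
  ([([14], [3, 4, 5, 6, 7, 8, 9, 11, 6, 5, 4, 3, 7, 6, 5, 8, 12, 11, 6, 5, 4, 3, 7, 6, 5, 4, 8, 11, 6, 5, 7, 12, 11, 6, 5, 10, 9, 8, 7, 6, 5, 4, 11, 4, 5, 6, 7, 8, 9, 10, 5, 6, 11, 12, 7, 5, 6, 11, 8, 4, 5, 6, 7, 3, 4, 5, 6, 11, 12, 8, 5, 6, 7, 3, 4, 5, 6, 11, 9, 8, 7, 6, 5, 4, 3])], [16]),
  ([([14], [3, 4, 5, 6, 7, 8, 9, 11, 6, 5, 4, 3, 7, 6, 5, 8, 12, 11, 6, 5, 4, 3, 7, 6, 5, 4, 8, 11, 6, 5, 7, 12, 11, 6, 5, 10, 9, 8, 7, 6, 5, 4, 11, 4, 5, 6, 7, 8, 9, 10, 5, 6, 11, 12, 7, 5, 6, 11, 8, 4, 5, 6, 7, 3, 4, 5, 6, 11, 12, 8, 5, 6, 7, 3, 4, 5, 6, 11, 9, 8, 7, 6, 5, 4, 3])], [17]),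
  ([([14], [3, 4, 5, 6, 7, 8, 9, 11, 6, 5, 4, 3, 7, 6, 5, 8, 12, 11, 6, 5, 4, 3, 7, 6, 5, 4, 8, 11, 6, 5, 7, 12, 11, 6, 5, 10, 9, 8, 7, 6, 5, 4, 11, 4, 5, 6, 7, 8, 9, 10, 5, 6, 11, 12, 7, 5, 6, 11, 8, 4, 5, 6, 7, 3, 4, 5, 6, 11, 12, 8, 5, 6, 7, 3, 4, 5, 6, 11, 9, 8, 7, 6, 5, 4, 3])], [18]),
  ([([15], [3, 4, 5, 6, 7, 8, 9, 11, 6, 5, 4, 7, 6, 8, 11, 12, 11, 6, 5, 4, 3, 7, 6, 5, 8, 7, 11, 6, 5, 7, 12, 11, 10, 9, 8, 7, 6, 5, 14, 4, 5, 6, 11, 3, 4, 5, 6, 7, 8, 9, 10, 12, 11, 6, 7, 8, 5, 6, 7, 3, 4, 5, 6, 11, 12, 6, 7, 3, 4, 5, 6, 11, 9, 8, 7, 6, 5, 4, 3])], [0]),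
  ([([15], [3, 4, 5, 6, 7, 8, 9, 11, 6, 5, 4, 7, 6, 8, 11, 12, 11, 6, 5, 4, 3, 7, 6, 5, 8, 7, 11, 6, 5, 7, 12, 11, 10, 9, 8, 7, 6, 5, 14, 4, 5, 6, 11, 3, 4, 5, 6, 7, 8, 9, 10, 12, 11, 6, 7, 8, 5, 6, 7, 3, 4, 5, 6, 11, 12, 6, 7, 3, 4, 5, 6, 11, 9, 8, 7, 6, 5, 4, 3])], [1]),
  ([([15], [3, 4, 5, 6, 7, 8, 9, 11, 6, 5, 4, 7, 6, 8, 11, 12, 11, 6, 5, 4, 3, 7, 6, 5, 8, 7, 11, 6, 5, 7, 12, 11, 10, 9, 8, 7, 6, 5, 14, 4, 5, 6, 11, 3, 4, 5, 6, 7, 8, 9, 10, 12, 11, 6, 7, 8, 5, 6, 7, 3, 4, 5, 6, 11, 12, 6, 7, 3, 4, 5, 6, 11, 9, 8, 7, 6, 5, 4, 3])], [2]),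
  ([([15], [3, 4, 5, 6, 7, 8, 9, 11, 6, 5, 4, 7, 6, 8, 11, 12, 11, 6, 5, 4, 3, 7, 6, 5, 8, 7, 11, 6, 5, 7, 12, 11, 10, 9, 8, 7, 6, 5, 14, 4, 5, 6, 11, 3, 4, 5, 6, 7, 8, 9, 10, 12, 11, 6, 7, 8, 5, 6, 7, 3, 4, 5, 6, 11, 12, 6, 7, 3, 4, 5, 6, 11, 9, 8, 7, 6, 5, 4, 3])], [3]),
  ([([15], [3, 4, 5, 6, 7, 8, 9, 11, 6, 5, 4, 7, 6, 8, 11, 12, 11, 6, 5, 4, 3, 7, 6, 5, 8, 7, 11, 6, 5, 7, 12, 11, 10, 9, 8, 7, 6, 5, 14, 4, 5, 6, 11, 3, 4, 5, 6, 7, 8, 9, 10, 12, 11, 6, 7, 8, 5, 6, 7, 3, 4, 5, 6, 11, 12, 6, 7, 3, 4, 5, 6, 11, 9, 8, 7, 6, 5, 4, 3])], [4]),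
  ([([15], [3, 4, 5, 6, 7, 8, 9, 11, 6, 5, 4, 7, 6, 8, 11, 12, 11, 6, 5, 4, 3, 7, 6, 5, 8, 7, 11, 6, 5, 7, 12, 11, 10, 9, 8, 7, 6, 5, 14, 4, 5, 6, 11, 3, 4, 5, 6, 7, 8, 9, 10, 12, 11, 6, 7, 8, 5, 6, 7, 3, 4, 5, 6, 11, 12, 6, 7, 3, 4, 5, 6, 11, 9, 8, 7, 6, 5, 4, 3])], [5]),
  ([([15], [3, 4, 5, 6, 7, 8, 9, 11, 6, 5, 4, 7, 6, 8, 11, 12, 11, 6, 5, 4, 3, 7, 6, 5, 8, 7, 11, 6, 5, 7, 12, 11, 10, 9, 8, 7, 6, 5, 14, 4, 5, 6, 11, 3, 4, 5, 6, 7, 8, 9, 10, 12, 11, 6, 7, 8, 5, 6, 7, 3, 4, 5, 6, 11, 12, 6, 7, 3, 4, 5, 6, 11, 9, 8, 7, 6, 5, 4, 3])], [6]),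
  ([([15], [3, 4, 5, 6, 7, 8, 9, 11, 6, 5, 4, 7, 6, 8, 11, 12, 11, 6, 5, 4, 3, 7, 6, 5, 8, 7, 11, 6, 5, 7, 12, 11, 10, 9, 8, 7, 6, 5, 14, 4, 5, 6, 11, 3, 4, 5, 6, 7, 8, 9, 10, 12, 11, 6, 7, 8, 5, 6, 7, 3, 4, 5, 6, 11, 12, 6, 7, 3, 4, 5, 6, 11, 9, 8, 7, 6, 5, 4, 3])], [7]),
  ([([15], [3, 4, 5, 6, 7, 8, 9, 11, 6, 5, 4, 7, 6, 8, 11, 12, 11, 6, 5, 4, 3, 7, 6, 5, 8, 7, 11, 6, 5, 7, 12, 11, 10, 9, 8, 7, 6, 5, 14, 4, 5, 6, 11, 3, 4, 5, 6, 7, 8, 9, 10, 12, 11, 6, 7, 8, 5, 6, 7, 3, 4, 5, 6, 11, 12, 6, 7, 3, 4, 5, 6, 11, 9, 8, 7, 6, 5, 4, 3])], [8]),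
  ([([15], [3, 4, 5, 6, 7, 8, 9, 11, 6, 5, 4, 7, 6, 8, 11, 12, 11, 6, 5, 4, 3, 7, 6, 5, 8, 7, 11, 6, 5, 7, 12, 11, 10, 9, 8, 7, 6, 5, 14, 4, 5, 6, 11, 3, 4, 5, 6, 7, 8, 9, 10, 12, 11, 6, 7, 8, 5, 6, 7, 3, 4, 5, 6, 11, 12, 6, 7, 3, 4, 5, 6, 11, 9, 8, 7, 6, 5, 4, 3])], [9]),
  ([([15], [3, 4, 5, 6, 7, 8, 9, 11, 6, 5, 4, 7, 6, 8, 11, 12, 11, 6, 5, 4, 3, 7, 6, 5, 8, 7, 11, 6, 5, 7, 12, 11, 10, 9, 8, 7, 6, 5, 14, 4, 5, 6, 11, 3, 4, 5, 6, 7, 8, 9, 10, 12, 11, 6, 7, 8, 5, 6, 7, 3, 4, 5, 6, 11, 12, 6, 7, 3, 4, 5, 6, 11, 9, 8, 7, 6, 5, 4, 3])], [10]),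
  ([([15], [3, 4, 5, 6, 7, 8, 9, 11, 6, 5, 4, 7, 6, 8, 11, 12, 11, 6, 5, 4, 3, 7, 6, 5, 8, 7, 11, 6, 5, 7, 12, 11, 10, 9, 8, 7, 6, 5, 14, 4, 5, 6, 11, 3, 4, 5, 6, 7, 8, 9, 10, 12, 11, 6, 7, 8, 5, 6, 7, 3, 4, 5, 6, 11, 12, 6, 7, 3, 4, 5, 6, 11, 9, 8, 7, 6, 5, 4, 3])], [11]),
  ([([15], [3, 4, 5, 6, 7, 8, 9, 11, 6, 5, 4, 7, 6, 8, 11, 12, 11, 6, 5, 4, 3, 7, 6, 5, 8, 7, 11, 6, 5, 7, 12, 11, 10, 9, 8, 7, 6, 5, 14, 4, 5, 6, 11, 3, 4, 5, 6, 7, 8, 9, 10, 12, 11, 6, 7, 8, 5, 6, 7, 3, 4, 5, 6, 11, 12, 6, 7, 3, 4, 5, 6, 11, 9, 8, 7, 6, 5, 4, 3])], [12]),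
  ([([15], [3, 4, 5, 6, 7, 8, 9, 11, 6, 5, 4, 7, 6, 8, 11, 12, 11, 6, 5, 4, 3, 7, 6, 5, 8, 7, 11, 6, 5, 7, 12, 11, 10, 9, 8, 7, 6, 5, 14, 4, 5, 6, 11, 3, 4, 5, 6, 7, 8, 9, 10, 12, 11, 6, 7, 8, 5, 6, 7, 3, 4, 5, 6, 11, 12, 6, 7, 3, 4, 5, 6, 11, 9, 8, 7, 6, 5, 4, 3])], [13]),
  ([([15], [3, 4, 5, 6, 7, 8, 9, 11, 6, 5, 4, 7, 6, 8, 11, 12, 11, 6, 5, 4, 3, 7, 6, 5, 8, 7, 11, 6, 5, 7, 12, 11, 10, 9, 8, 7, 6, 5, 14, 4, 5, 6, 11, 3, 4, 5, 6, 7, 8, 9, 10, 12, 11, 6, 7, 8, 5, 6, 7, 3, 4, 5, 6, 11, 12, 6, 7, 3, 4, 5, 6, 11, 9, 8, 7, 6, 5, 4, 3])], [14]),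
  ([([15], [3, 4, 5, 6, 7, 8, 9, 11, 6, 5, 4, 7, 6, 8, 11, 12, 11, 6, 5, 4, 3, 7, 6, 5, 8, 7, 11, 6, 5, 7, 12, 11, 10, 9, 8, 7, 6, 5, 14, 4, 5, 6, 11, 3, 4, 5, 6, 7, 8, 9, 10, 12, 11, 6, 7, 8, 5, 6, 7, 3, 4, 5, 6, 11, 12, 6, 7, 3, 4, 5, 6, 11, 9, 8, 7, 6, 5, 4, 3])], [15]),
  ([([15], [3, 4, 5, 6, 7, 8, 9, 11, 6, 5, 4, 7, 6, 8, 11, 12, 11, 6, 5, 4, 3, 7, 6, 5, 8, 7, 11, 6, 5, 7, 12, 11, 10, 9, 8, 7, 6, 5, 14, 4, 5, 6, 11, 3, 4, 5, 6, 7, 8, 9, 10, 12, 11, 6, 7, 8, 5, 6, 7, 3, 4, 5, 6, 11, 12, 6, 7, 3, 4, 5, 6, 11, 9, 8, 7, 6, 5, 4, 3])], [16]),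
  ([([15], [3, 4, 5, 6, 7, 8, 9, 11, 6, 5, 4, 7, 6, 8, 11, 12, 11, 6, 5, 4, 3, 7, 6, 5, 8, 7, 11, 6, 5, 7, 12, 11, 10, 9, 8, 7, 6, 5, 14, 4, 5, 6, 11, 3, 4, 5, 6, 7, 8, 9, 10, 12, 11, 6, 7, 8, 5, 6, 7, 3, 4, 5, 6, 11, 12, 6, 7, 3, 4, 5, 6, 11, 9, 8, 7, 6, 5, 4, 3])], [17]),
  ([([15], [3, 4, 5, 6, 7, 8, 9, 11, 6, 5, 4, 7, 6, 8, 11, 12, 11, 6, 5, 4, 3, 7, 6, 5, 8, 7, 11, 6, 5, 7, 12, 11, 10, 9, 8, 7, 6, 5, 14, 4, 5, 6, 11, 3, 4, 5, 6, 7, 8, 9, 10, 12, 11, 6, 7, 8, 5, 6, 7, 3, 4, 5, 6, 11, 12, 6, 7, 3, 4, 5, 6, 11, 9, 8, 7, 6, 5, 4, 3])], [18]),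
  ([([16], [15, 15, 15, 13, 13, 15, 13, 13, 15, 13, 15, 13, 13, 14, 15, 15, 14, 13, 15, 14, 15, 13, 13, 13, 15, 13])], [0, 1, 2, 3, 4]),
  ([([16], [15, 15, 15, 13, 13, 15, 13, 13, 15, 13, 15, 13, 13, 14, 15, 15, 14, 13, 15, 14, 15, 13, 13, 13, 15, 13])], [5, 6, 7, 8, 9]),
  ([([16], [15, 15, 15, 13, 13, 15, 13, 13, 15, 13, 15, 13, 13, 14, 15, 15, 14, 13, 15, 14, 15, 13, 13, 13, 15, 13])], [10, 11, 12, 13, 14]),
  ([([16], [15, 15, 15, 13, 13, 15, 13, 13, 15, 13, 15, 13, 13, 14, 15, 15, 14, 13, 15, 14, 15, 13, 13, 13, 15, 13])], [15, 16, 17, 18]),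
  ([([17], [15, 15, 15, 15, 15, 13, 13, 13, 14, 15, 15, 14, 15, 14, 13, 13, 13, 15, 13, 13, 13, 13, 15, 15, 14, 13, 13, 13, 15])], [0, 1, 2, 3, 4]),
  ([([17], [15, 15, 15, 15, 15, 13, 13, 13, 14, 15, 15, 14, 15, 14, 13, 13, 13, 15, 13, 13, 13, 13, 15, 15, 14, 13, 13, 13, 15])], [5, 6, 7, 8, 9]),
  ([([17], [15, 15, 15, 15, 15, 13, 13, 13, 14, 15, 15, 14, 15, 14, 13, 13, 13, 15, 13, 13, 13, 13, 15, 15, 14, 13, 13, 13, 15])], [10, 11, 12, 13, 14]),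
  ([([17], [15, 15, 15, 15, 15, 13, 13, 13, 14, 15, 15, 14, 15, 14, 13, 13, 13, 15, 13, 13, 13, 13, 15, 15, 14, 13, 13, 13, 15])], [15, 16, 17, 18]),
  ([([18], [15, 13, 15, 15, 15, 15, 13, 13, 13, 13, 13, 15, 15, 15, 15, 16, 13, 15, 15, 13, 13, 13, 15, 13, 13, 15, 13, 15, 13, 13])], [0, 1, 2, 3]),
  ([([18], [15, 13, 15, 15, 15, 15, 13, 13, 13, 13, 13, 15, 15, 15, 15, 16, 13, 15, 15, 13, 13, 13, 15, 13, 13, 15, 13, 15, 13, 13])], [4, 5, 6, 7]),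
  ([([18], [15, 13, 15, 15, 15, 15, 13, 13, 13, 13, 13, 15, 15, 15, 15, 16, 13, 15, 15, 13, 13, 13, 15, 13, 13, 15, 13, 15, 13, 13])], [8, 9, 10, 11]),
  ([([18], [15, 13, 15, 15, 15, 15, 13, 13, 13, 13, 13, 15, 15, 15, 15, 16, 13, 15, 15, 13, 13, 13, 15, 13, 13, 15, 13, 15, 13, 13])], [12, 13, 14, 15]),
  ([([18], [15, 13, 15, 15, 15, 15, 13, 13, 13, 13, 13, 15, 15, 15, 15, 16, 13, 15, 15, 13, 13, 13, 15, 13, 13, 15, 13, 15, 13, 13])], [16, 17, 18]),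
  ([([19], [18, 17, 18, 16, 16, 18, 16, 17, 17, 16, 17, 17, 16, 18, 16, 18, 17, 16, 18, 17, 17])], [0, 1, 2, 3, 4, 5]),
  ([([19], [18, 17, 18, 16, 16, 18, 16, 17, 17, 16, 17, 17, 16, 18, 16, 18, 17, 16, 18, 17, 17])], [6, 7, 8, 9, 10, 11]),
  ([([19], [18, 17, 18, 16, 16, 18, 16, 17, 17, 16, 17, 17, 16, 18, 16, 18, 17, 16, 18, 17, 17])], [12, 13, 14, 15, 16, 17]),
  ([([19], [18, 17, 18, 16, 16, 18, 16, 17, 17, 16, 17, 17, 16, 18, 16, 18, 17, 16, 18, 17, 17])], [18]),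
  ([([20], [17, 17, 16, 18, 18, 16, 16, 17, 17, 17, 19, 16, 17, 17, 16, 16, 17, 18, 18, 17, 17, 17, 16])], [0, 1, 2, 3, 4, 5]),
  ([([20], [17, 17, 16, 18, 18, 16, 16, 17, 17, 17, 19, 16, 17, 17, 16, 16, 17, 18, 18, 17, 17, 17, 16])], [6, 7, 8, 9, 10, 11]),
  ([([20], [17, 17, 16, 18, 18, 16, 16, 17, 17, 17, 19, 16, 17, 17, 16, 16, 17, 18, 18, 17, 17, 17, 16])], [12, 13, 14, 15, 16, 17]),
  ([([20], [17, 17, 16, 18, 18, 16, 16, 17, 17, 17, 19, 16, 17, 17, 16, 16, 17, 18, 18, 17, 17, 17, 16])], [18]),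
  ([([21], [18, 17, 18, 17, 16, 16, 18, 18, 16, 16, 17, 16, 18, 18, 16, 18, 18, 17, 16, 18, 16])], [0, 1, 2, 3, 4, 5]),
  ([([21], [18, 17, 18, 17, 16, 16, 18, 18, 16, 16, 17, 16, 18, 18, 16, 18, 18, 17, 16, 18, 16])], [6, 7, 8, 9, 10, 11]),
  ([([21], [18, 17, 18, 17, 16, 16, 18, 18, 16, 16, 17, 16, 18, 18, 16, 18, 18, 17, 16, 18, 16])], [12, 13, 14, 15, 16, 17]),
  ([([21], [18, 17, 18, 17, 16, 16, 18, 18, 16, 16, 17, 16, 18, 18, 16, 18, 18, 17, 16, 18, 16])], [18]),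
  ([([22], [3, 4, 14, 15, 5, 19, 17, 21, 9, 5, 19, 3])], [0, 1, 2, 3, 4, 5, 6, 7, 8, 9, 10]),
  ([([22], [3, 4, 14, 15, 5, 19, 17, 21, 9, 5, 19, 3])], [11, 12, 13, 14, 15, 16, 17, 18]),
  ([([23], [13, 19, 22, 19, 13, 18, 18, 15, 20, 18, 21, 18, 13])], [0, 1, 2, 3, 4, 5, 6, 7, 8, 9]),
  ([([23], [13, 19, 22, 19, 13, 18, 18, 15, 20, 18, 21, 18, 13])], [10, 11, 12, 13, 14, 15, 16, 17, 18]),
  ([([24], [18, 17, 19, 18, 17, 18, 18, 21, 21, 20, 18, 17, 16])], [0, 1, 2, 3, 4, 5, 6, 7, 8, 9]),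
  ([([24], [18, 17, 19, 18, 17, 18, 18, 21, 21, 20, 18, 17, 16])], [10, 11, 12, 13, 14, 15, 16, 17, 18]),
  ([([25], [3, 4, 22, 21, 21, 24, 3, 19, 7, 17, 11, 3, 16, 13, 3])], [0, 1, 2, 3, 4, 5, 6, 7, 8]),
  ([([25], [3, 4, 22, 21, 21, 24, 3, 19, 7, 17, 11, 3, 16, 13, 3])], [9, 10, 11, 12, 13, 14, 15, 16, 17]),
  ([([25], [3, 4, 22, 21, 21, 24, 3, 19, 7, 17, 11, 3, 16, 13, 3])], [18]),
  ([([26], [13, 21, 21, 23, 18, 15, 13, 16, 22])], [0, 1, 2, 3, 4, 5, 6, 7, 8, 9, 10, 11, 12, 13, 14]),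
  ([([26], [13, 21, 21, 23, 18, 15, 13, 16, 22])], [15, 16, 17, 18])]
theorem macT0 : eqChk (ntOf ntl2) 19 (macTasks.getD 0 ([], [])) = true := by decide +kernel
theorem macT1 : eqChk (ntOf ntl2) 19 (macTasks.getD 1 ([], [])) = true := by decide +kernel
theorem macT2 : eqChk (ntOf ntl2) 19 (macTasks.getD 2 ([], [])) = true := by decide +kernel
theorem macT3 : eqChk (ntOf ntl2) 19 (macTasks.getD 3 ([], [])) = true := by decide +kernel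
theorem macT4 : eqChk (ntOf ntl2) 19 (macTasks.getD 4 ([], [])) = true := by decide +kernel
theorem macT5 : eqChk (ntOf ntl2) 19 (macTasks.getD 5 ([], [])) = true := by decide +kernel
theorem macT6 : eqChk (ntOf ntl2) 19 (macTasks.getD 6 ([], [])) = true := by decide +kernel
theorem macT7 : eqChk (ntOf ntl2) 19 (macTasks.getD 7 ([], [])) = true := by decide +kernel
theorem macT8 : eqChk (ntOf ntl2) 19 (macTasks.getD 8 ([], [])) = true := by decide +kernel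
theorem macT9 : eqChk (ntOf ntl2) 19 (macTasks.getD 9 ([], [])) = true := by decide +kernel
theorem macT10 : eqChk (ntOf ntl2) 19 (macTasks.getD 10 ([], [])) = true := by decide +kernel
theorem macT11 : eqChk (ntOf ntl2) 19 (macTasks.getD 11 ([], [])) = true := by decide +kernel
theorem macT12 : eqChk (ntOf ntl2) 19 (macTasks.getD 12 ([], [])) = true := by decide +kernel
theorem macT13 : eqChk (ntOf ntl2) 19 (macTasks.getD 13 ([], [])) = true := by decide +kernel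
theorem macT14 : eqChk (ntOf ntl2) 19 (macTasks.getD 14 ([], [])) = true := by decide +kernel
theorem macT15 : eqChk (ntOf ntl2) 19 (macTasks.getD 15 ([], [])) = true := by decide +kernel
theorem macT16 : eqChk (ntOf ntl2) 19 (macTasks.getD 16 ([], [])) = true := by decide +kernel
theorem macT17 : eqChk (ntOf ntl2) 19 (macTasks.getD 17 ([], [])) = true := by decide +kernel
theorem macT18 : eqChk (ntOf ntl2) 19 (macTasks.getD 18 ([], [])) = true := by decide +kernel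
theorem macT19 : eqChk (ntOf ntl2) 19 (macTasks.getD 19 ([], [])) = true := by decide +kernel
theorem macT20 : eqChk (ntOf ntl2) 19 (macTasks.getD 20 ([], [])) = true := by decide +kernel
theorem macT21 : eqChk (ntOf ntl2) 19 (macTasks.getD 21 ([], [])) = true := by decide +kernel
theorem macT22 : eqChk (ntOf ntl2) 19 (macTasks.getD 22 ([], [])) = true := by decide +kernel
theorem macT23 : eqChk (ntOf ntl2) 19 (macTasks.getD 23 ([], [])) = true := by decide +kernel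
theorem macT24 : eqChk (ntOf ntl2) 19 (macTasks.getD 24 ([], [])) = true := by decide +kernel
theorem macT25 : eqChk (ntOf ntl2) 19 (macTasks.getD 25 ([], [])) = true := by decide +kernel
theorem macT26 : eqChk (ntOf ntl2) 19 (macTasks.getD 26 ([], [])) = true := by decide +kernel
theorem macT27 : eqChk (ntOf ntl2) 19 (macTasks.getD 27 ([], [])) = true := by decide +kernel
theorem macT28 : eqChk (ntOf ntl2) 19 (macTasks.getD 28 ([], [])) = true := by decide +kernel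
theorem macT29 : eqChk (ntOf ntl2) 19 (macTasks.getD 29 ([], [])) = true := by decide +kernel
theorem macT30 : eqChk (ntOf ntl2) 19 (macTasks.getD 30 ([], [])) = true := by decide +kernel
theorem macT31 : eqChk (ntOf ntl2) 19 (macTasks.getD 31 ([], [])) = true := by decide +kernel
theorem macT32 : eqChk (ntOf ntl2) 19 (macTasks.getD 32 ([], [])) = true := by decide +kernel
theorem macT33 : eqChk (ntOf ntl2) 19 (macTasks.getD 33 ([], [])) = true := by decide +kernel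
theorem macT34 : eqChk (ntOf ntl2) 19 (macTasks.getD 34 ([], [])) = true := by decide +kernel
theorem macT35 : eqChk (ntOf ntl2) 19 (macTasks.getD 35 ([], [])) = true := by decide +kernel
theorem macT36 : eqChk (ntOf ntl2) 19 (macTasks.getD 36 ([], [])) = true := by decide +kernel
theorem macT37 : eqChk (ntOf ntl2) 19 (macTasks.getD 37 ([], [])) = true := by decide +kernel
theorem macT38 : eqChk (ntOf ntl2) 19 (macTasks.getD 38 ([], [])) = true := by decide +kernel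
theorem macT39 : eqChk (ntOf ntl2) 19 (macTasks.getD 39 ([], [])) = true := by decide +kernel
theorem macT40 : eqChk (ntOf ntl2) 19 (macTasks.getD 40 ([], [])) = true := by decide +kernel
theorem macT41 : eqChk (ntOf ntl2) 19 (macTasks.getD 41 ([], [])) = true := by decide +kernel
theorem macT42 : eqChk (ntOf ntl2) 19 (macTasks.getD 42 ([], [])) = true := by decide +kernel
theorem macT43 : eqChk (ntOf ntl2) 19 (macTasks.getD 43 ([], [])) = true := by decide +kernel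
theorem macT44 : eqChk (ntOf ntl2) 19 (macTasks.getD 44 ([], [])) = true := by decide +kernel
theorem macT45 : eqChk (ntOf ntl2) 19 (macTasks.getD 45 ([], [])) = true := by decide +kernel
theorem macT46 : eqChk (ntOf ntl2) 19 (macTasks.getD 46 ([], [])) = true := by decide +kernel
theorem macT47 : eqChk (ntOf ntl2) 19 (macTasks.getD 47 ([], [])) = true := by decide +kernel
theorem macT48 : eqChk (ntOf ntl2) 19 (macTasks.getD 48 ([], [])) = true := by decide +kernel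
theorem macT49 : eqChk (ntOf ntl2) 19 (macTasks.getD 49 ([], [])) = true := by decide +kernel
theorem macT50 : eqChk (ntOf ntl2) 19 (macTasks.getD 50 ([], [])) = true := by decide +kernel
theorem macT51 : eqChk (ntOf ntl2) 19 (macTasks.getD 51 ([], [])) = true := by decide +kernel
theorem macT52 : eqChk (ntOf ntl2) 19 (macTasks.getD 52 ([], [])) = true := by decide +kernel
theorem macT53 : eqChk (ntOf ntl2) 19 (macTasks.getD 53 ([], [])) = true := by decide +kernel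
theorem macT54 : eqChk (ntOf ntl2) 19 (macTasks.getD 54 ([], [])) = true := by decide +kernel
theorem macT55 : eqChk (ntOf ntl2) 19 (macTasks.getD 55 ([], [])) = true := by decide +kernel
theorem macT56 : eqChk (ntOf ntl2) 19 (macTasks.getD 56 ([], [])) = true := by decide +kernel
theorem macT57 : eqChk (ntOf ntl2) 19 (macTasks.getD 57 ([], [])) = true := by decide +kernel
theorem macT58 : eqChk (ntOf ntl2) 19 (macTasks.getD 58 ([], [])) = true := by decide +kernel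
theorem macT59 : eqChk (ntOf ntl2) 19 (macTasks.getD 59 ([], [])) = true := by decide +kernel
theorem macT60 : eqChk (ntOf ntl2) 19 (macTasks.getD 60 ([], [])) = true := by decide +kernel
theorem macT61 : eqChk (ntOf ntl2) 19 (macTasks.getD 61 ([], [])) = true := by decide +kernel
theorem macT62 : eqChk (ntOf ntl2) 19 (macTasks.getD 62 ([], [])) = true := by decide +kernel
theorem macT63 : eqChk (ntOf ntl2) 19 (macTasks.getD 63 ([], [])) = true := by decide +kernel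
theorem macT64 : eqChk (ntOf ntl2) 19 (macTasks.getD 64 ([], [])) = true := by decide +kernel
theorem macT65 : eqChk (ntOf ntl2) 19 (macTasks.getD 65 ([], [])) = true := by decide +kernel
theorem macT66 : eqChk (ntOf ntl2) 19 (macTasks.getD 66 ([], [])) = true := by decide +kernel
theorem macT67 : eqChk (ntOf ntl2) 19 (macTasks.getD 67 ([], [])) = true := by decide +kernel
theorem macT68 : eqChk (ntOf ntl2) 19 (macTasks.getD 68 ([], [])) = true := by decide +kernel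
theorem macT69 : eqChk (ntOf ntl2) 19 (macTasks.getD 69 ([], [])) = true := by decide +kernel
theorem macT70 : eqChk (ntOf ntl2) 19 (macTasks.getD 70 ([], [])) = true := by decide +kernel
theorem macT71 : eqChk (ntOf ntl2) 19 (macTasks.getD 71 ([], [])) = true := by decide +kernel
theorem macT72 : eqChk (ntOf ntl2) 19 (macTasks.getD 72 ([], [])) = true := by decide +kernel
theorem macT73 : eqChk (ntOf ntl2) 19 (macTasks.getD 73 ([], [])) = true := by decide +kernel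
theorem macT74 : eqChk (ntOf ntl2) 19 (macTasks.getD 74 ([], [])) = true := by decide +kernel
theorem macT75 : eqChk (ntOf ntl2) 19 (macTasks.getD 75 ([], [])) = true := by decide +kernel
theorem macT76 : eqChk (ntOf ntl2) 19 (macTasks.getD 76 ([], [])) = true := by decide +kernel
theorem macT77 : eqChk (ntOf ntl2) 19 (macTasks.getD 77 ([], [])) = true := by decide +kernel
theorem macT78 : eqChk (ntOf ntl2) 19 (macTasks.getD 78 ([], [])) = true := by decide +kernel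
theorem macT79 : eqChk (ntOf ntl2) 19 (macTasks.getD 79 ([], [])) = true := by decide +kernel
theorem macT80 : eqChk (ntOf ntl2) 19 (macTasks.getD 80 ([], [])) = true := by decide +kernel
theorem macT81 : eqChk (ntOf ntl2) 19 (macTasks.getD 81 ([], [])) = true := by decide +kernel
theorem macT82 : eqChk (ntOf ntl2) 19 (macTasks.getD 82 ([], [])) = true := by decide +kernel
theorem macT83 : eqChk (ntOf ntl2) 19 (macTasks.getD 83 ([], [])) = true := by decide +kernel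
theorem macTall : ∀ i < macTasks.length, eqChk (ntOf ntl2) 19 (macTasks.getD i ([], [])) = true := by
  intro i hi
  have hlen : macTasks.length = 84 := by decide +kernel
  rw [hlen] at hi
  interval_cases i
  · exact macT0
  · exact macT1
  · exact macT2
  · exact macT3
  · exact macT4
  · exact macT5
  · exact macT6
  · exact macT7
  · exact macT8
  · exact macT9
  · exact macT10
  · exact macT11
  · exact macT12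
  · exact macT13
  · exact macT14
  · exact macT15
  · exact macT16
  · exact macT17
  · exact macT18
  · exact macT19
  · exact macT20
  · exact macT21
  · exact macT22
  · exact macT23
  · exact macT24
  · exact macT25
  · exact macT26
  · exact macT27
  · exact macT28
  · exact macT29
  · exact macT30
  · exact macT31
  · exact macT32
  · exact macT33
  · exact macT34
  · exact macT35
  · exact macT36
  · exact macT37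
  · exact macT38
  · exact macT39
  · exact macT40
  · exact macT41
  · exact macT42
  · exact macT43
  · exact macT44
  · exact macT45
  · exact macT46
  · exact macT47
  · exact macT48
  · exact macT49
  · exact macT50
  · exact macT51
  · exact macT52
  · exact macT53
  · exact macT54
  · exact macT55
  · exact macT56
  · exact macT57
  · exact macT58
  · exact macT59
  · exact macT60
  · exact macT61
  · exact macT62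
  · exact macT63
  · exact macT64
  · exact macT65
  · exact macT66
  · exact macT67
  · exact macT68
  · exact macT69
  · exact macT70
  · exact macT71
  · exact macT72
  · exact macT73
  · exact macT74
  · exact macT75
  · exact macT76
  · exact macT77
  · exact macT78
  · exact macT79
  · exact macT80
  · exact macT81
  · exact macT82
  · exact macT83
theorem macOK : macChk (ntOf ntl2) 19 13 macs = true :=
  macChk_of_eqs _ _ macs 13 (eqs_of_tasks _ _ _ macTasks macTall (by decide +kernel)) (by decide +kernel)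
theorem cg0 : growChk (ntOf ntl2) lv0.1 lv0.2.1 lv0.2.2.1 lv0.2.2.2.1 lv0.2.2.2.2 = true := by decide +kernel
theorem cg1 : growChk (ntOf ntl2) lv1.1 lv1.2.1 lv1.2.2.1 lv1.2.2.2.1 lv1.2.2.2.2 = true := by decide +kernel
theorem cf1_0 : fixChk (ntOf ntl2) lv1.1 lv0.2.2.1 1 = true := by decide +kernel
theorem cg2 : growChk (ntOf ntl2) lv2.1 lv2.2.1 lv2.2.2.1 lv2.2.2.2.1 lv2.2.2.2.2 = true := by decide +kernel
theorem cf2_0 : fixChk (ntOf ntl2) lv2.1 lv0.2.2.1 1 = true := by decide +kernel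
theorem cf2_1 : fixChk (ntOf ntl2) lv2.1 lv1.2.2.1 1 = true := by decide +kernel
theorem cg3 : growChk (ntOf ntl2) lv3.1 lv3.2.1 lv3.2.2.1 lv3.2.2.2.1 lv3.2.2.2.2 = true := by decide +kernel
theorem cf3_0 : fixChk (ntOf ntl2) lv3.1 lv0.2.2.1 1 = true := by decide +kernel
theorem cf3_1 : fixChk (ntOf ntl2) lv3.1 lv1.2.2.1 1 = true := by decide +kernel
theorem cf3_2 : fixChk (ntOf ntl2) lv3.1 lv2.2.2.1 1 = true := by decide +kernel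
theorem cg4 : growChk (ntOf ntl2) lv4.1 lv4.2.1 lv4.2.2.1 lv4.2.2.2.1 lv4.2.2.2.2 = true := by decide +kernel
theorem cf4_0 : fixChk (ntOf ntl2) lv4.1 lv0.2.2.1 1 = true := by decide +kernel
theorem cf4_1 : fixChk (ntOf ntl2) lv4.1 lv1.2.2.1 1 = true := by decide +kernel
theorem cf4_2 : fixChk (ntOf ntl2) lv4.1 lv2.2.2.1 1 = true := by decide +kernel
theorem cf4_3 : fixChk (ntOf ntl2) lv4.1 lv3.2.2.1 1 = true := by decide +kernel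
theorem cg5 : growChk (ntOf ntl2) lv5.1 lv5.2.1 lv5.2.2.1 lv5.2.2.2.1 lv5.2.2.2.2 = true := by decide +kernel
theorem cf5_0 : fixChk (ntOf ntl2) lv5.1 lv0.2.2.1 1 = true := by decide +kernel
theorem cf5_1 : fixChk (ntOf ntl2) lv5.1 lv1.2.2.1 1 = true := by decide +kernel
theorem cf5_2 : fixChk (ntOf ntl2) lv5.1 lv2.2.2.1 1 = true := by decide +kernel
theorem cf5_3 : fixChk (ntOf ntl2) lv5.1 lv3.2.2.1 1 = true := by decide +kernel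
theorem cf5_4 : fixChk (ntOf ntl2) lv5.1 lv4.2.2.1 1 = true := by decide +kernel
theorem cg6 : growChk (ntOf ntl2) lv6.1 lv6.2.1 lv6.2.2.1 lv6.2.2.2.1 lv6.2.2.2.2 = true := by decide +kernel
theorem cf6_0 : fixChk (ntOf ntl2) lv6.1 lv0.2.2.1 1 = true := by decide +kernel
theorem cf6_1 : fixChk (ntOf ntl2) lv6.1 lv1.2.2.1 1 = true := by decide +kernel
theorem cf6_2 : fixChk (ntOf ntl2) lv6.1 lv2.2.2.1 1 = true := by decide +kernel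
theorem cf6_3 : fixChk (ntOf ntl2) lv6.1 lv3.2.2.1 1 = true := by decide +kernel
theorem cf6_4 : fixChk (ntOf ntl2) lv6.1 lv4.2.2.1 1 = true := by decide +kernel
theorem cf6_5 : fixChk (ntOf ntl2) lv6.1 lv5.2.2.1 1 = true := by decide +kernel
theorem chainOK : chainChkW (ntOf ntl2) 27 levels [] = true :=
  chainChkW_cons _ _ lv0 _ _ (by decide +kernel) cg0 (by simp)
  (chainChkW_cons _ _ lv1 _ _ (by decide +kernel) cg1 (by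
    intro c hc
    simp only [List.mem_cons, List.mem_nil_iff, or_false] at hc
    rcases hc with rfl
    · exact cf1_0
    )
  (chainChkW_cons _ _ lv2 _ _ (by decide +kernel) cg2 (by
    intro c hc
    simp only [List.mem_cons, List.mem_nil_iff, or_false] at hc
    rcases hc with rfl | rfl
    · exact cf2_1
    · exact cf2_0
    )
  (chainChkW_cons _ _ lv3 _ _ (by decide +kernel) cg3 (by
    intro c hc
    simp only [List.mem_cons, List.mem_nil_iff, or_false] at hc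
    rcases hc with rfl | rfl | rfl
    · exact cf3_2
    · exact cf3_1
    · exact cf3_0
    )
  (chainChkW_cons _ _ lv4 _ _ (by decide +kernel) cg4 (by
    intro c hc
    simp only [List.mem_cons, List.mem_nil_iff, or_false] at hc
    rcases hc with rfl | rfl | rfl | rfl
    · exact cf4_3
    · exact cf4_2
    · exact cf4_1
    · exact cf4_0
    )
  (chainChkW_cons _ _ lv5 _ _ (by decide +kernel) cg5 (by
    intro c hc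
    simp only [List.mem_cons, List.mem_nil_iff, or_false] at hc
    rcases hc with rfl | rfl | rfl | rfl | rfl
    · exact cf5_4
    · exact cf5_3
    · exact cf5_2
    · exact cf5_1
    · exact cf5_0
    )
  (chainChkW_cons _ _ lv6 _ _ (by decide +kernel) cg6 (by
    intro c hc
    simp only [List.mem_cons, List.mem_nil_iff, or_false] at hc
    rcases hc with rfl | rfl | rfl | rfl | rfl | rfl
    · exact cf6_5
    · exact cf6_4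
    · exact cf6_3
    · exact cf6_2
    · exact cf6_1
    · exact cf6_0
    )
  (chainChkW_nil _ _ _)))))))

theorem hrange : ∀ l < 27, netPerm (ntOf ntl2 l) ∈ psi.range := by
  have h0 : ∀ l < 13, netPerm (ntOf ntl2 l) ∈ psi.range := by
    intro l hl
    refine ⟨PresentedGroup.mk _ ((WExp.l l).eval (fun l => LTFm.getD l 1)), ?_⟩
    rw [psi_eval]
    show wordPerm (ntOf ntl) [l] = _
    rw [wordPerm_single]
    have hlen : ntl.length = 13 := by decide +kernel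
    have e : ntOf ntl l = ntOf ntl2 l := by
      unfold ntOf ntl2
      rw [List.getD_append _ _ _ _ (by omega)]
    rw [e]
  exact macChk_spec psi (ntOf ntl2) 19 (ntOf_ok ntl2 _ nets2OK) macs 13 macOK h0

theorem order (hup : Nat.card Cfsg.Spor.Fi24 ≠ 0 ∧ Nat.card Cfsg.Spor.Fi24 ≤ 2510411418381323442585600) :
    Nat.card Cfsg.Spor.Fi24 = 2510411418381323442585600 ∧ stabL psi (pushBW levels []) = ⊥ :=
  order_of_chainW psi _ (ntOf ntl2) (ntOf_ok ntl2 _ nets2OK) 27 hrange levels chainOK 2510411418381323442585600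
    (by decide +kernel) hup

theorem hbn : ∀ b ∈ pushBW levels [], b < 306936 := by decide


end Cfsg.Agent.Lib.Helper11.Fi24o
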