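import Cfsg.Agent.Lib.Helper11.Fi24a.Upper
import Cfsg.Agent.Lib.Helper11.CoxModel
import Cfsg.Agent.Lib.Helper11.Chunk
import Cfsg.Agent.Lib.Helper11.Fi24o.M0
import Cfsg.Agent.Lib.Helper11.Fi24o.M1
import Cfsg.Agent.Lib.Helper11.Fi24o.M2
import Cfsg.Agent.Lib.Helper11.Fi24o.M3
import Cfsg.Agent.Lib.Helper11.Fi24o.M4
import Cfsg.Agent.Lib.Helper11.Fi24o.M5
import Cfsg.Agent.Lib.Helper11.Fi24o.M6
import Cfsg.Agent.Lib.Helper11.Fi24o.M7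
import Cfsg.Agent.Lib.Helper11.Fi24o.M8
import Cfsg.Agent.Lib.Helper11.Fi24o.M9
import Cfsg.Agent.Lib.Helper11.Fi24o.M10
import Cfsg.Agent.Lib.Helper11.Fi24o.M11
import Cfsg.Agent.Lib.Helper11.Fi24o.M12
import Cfsg.Agent.Lib.Helper11.Fi24o.M13
import Cfsg.Agent.Lib.Helper11.Fi24o.M14
import Cfsg.Agent.Lib.Helper11.Fi24o.M15
import Cfsg.Agent.Lib.Helper11.Fi24o.M16
import Cfsg.Agent.Lib.Helper11.Fi24o.M17
import Cfsg.Agent.Lib.Helper11.Fi24o.M18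
import Cfsg.Agent.Lib.Helper11.Fi24o.M19
import Cfsg.Agent.Lib.Helper11.Fi24o.M20
import Cfsg.Agent.Lib.Helper11.Fi24o.M21
import Cfsg.Agent.Lib.Helper11.Fi24o.M22
import Cfsg.Agent.Lib.Helper11.Fi24o.M23
import Cfsg.Agent.Lib.Helper11.Fi24o.M24
import Cfsg.Agent.Lib.Helper11.Fi24o.M25
import Cfsg.Agent.Lib.Helper11.Fi24o.M26
import Cfsg.Agent.Lib.Helper11.Fi24o.M27
import Cfsg.Agent.Lib.Helper11.Fi24o.M28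
import Cfsg.Agent.Lib.Helper11.Fi24o.M29
import Cfsg.Agent.Lib.Helper11.Fi24o.M30
import Cfsg.Agent.Lib.Helper11.Fi24o.M31
import Cfsg.Agent.Lib.Helper11.Fi24o.M32

set_option autoImplicit false
set_option maxRecDepth 100000

namespace Cfsg.Agent.Lib.Helper11.Fi24o

open Cfsg.Spor Cfsg.Spor.Fi24 Cfsg.Agent.Lib.Helper11.Fi24a

set_option maxHeartbeats 0
set_option Elab.async false

noncomputable def ntl : List (List (ℕ × ℕ)) := [[], [(mk1_0, 262144), (mk1_1, 131072), (mk1_2, 65536), (mk1_3, 32768), (mk1_4, 16384), (mk1_5, 8192), (mk1_6, 4096), (mk1_7, 2048), (mk1_8, 1024), (mk1_9, 512), (mk1_10, 256), (mk1_11, 128), (mk1_12, 64), (mk1_13, 32), (mk1_14, 16), (mk1_15, 8), (mk1_16, 4), (mk1_17, 2), (mk1_18, 1), (mk1_19, 2), (mk1_20, 4), (mk1_21, 8), (mk1_22, 16), (mk1_23, 32), (mk1_24, 64), (mk1_25, 128), (mk1_26,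 256), (mk1_27, 512), (mk1_28, 1024), (mk1_29, 2048), (mk1_30, 4096), (mk1_31, 8192), (mk1_32, 16384), (mk1_33, 32768), (mk1_34, 65536), (mk1_35, 131072), (mk1_36, 262144)], [(mk2_0, 262144), (mk2_1, 131072), (mk2_2, 65536), (mk2_3, 32768), (mk2_4, 16384), (mk2_5, 8192), (mk2_6, 4096), (mk2_7, 2048), (mk2_8, 1024), (mk2_9, 512), (mk2_10, 256), (mk2_11, 128), (mk2_12, 64), (mk2_13, 32), (mk2_14, 16), (mk2_15, 8), (mk2_16, 4), (mk2_17, 2), (mk2_18, 1), (mk2_19, 2), (mk2_20, 4), (mk2_21, 8), (mk2_22, 16), (mk2_23, 32), (mk2_24, 64), (mk2_25, 128), (mk2_26, 256), (mk2_27, 512), (mk2_28, 1024), (mk2_29, 2048), (mk2_30, 4096), (mk2_31, 8192), (mk2_32, 16384), (mk2_33, 32768), (mk2_34, 65536), (mk2_35, 131072), (mk2_36, 262144)], [(mk3_0, 262144), (mk3_1, 131072), (mk3_2, 65536), (mk3_3, 32768), (mk3_4, 16384), (mk3_5,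 8192), (mk3_6, 4096), (mk3_7, 2048), (mk3_8, 1024), (mk3_9, 512), (mk3_10, 256), (mk3_11, 128), (mk3_12, 64), (mk3_13, 32), (mk3_14, 16), (mk3_15, 8), (mk3_16, 4), (mk3_17, 2), (mk3_18, 1), (mk3_19, 2), (mk3_20, 4), (mk3_21, 8), (mk3_22, 16), (mk3_23, 32), (mk3_24, 64), (mk3_25, 128), (mk3_26, 256), (mk3_27, 512), (mk3_28, 1024), (mk3_29, 2048), (mk3_30, 4096), (mk3_31, 8192), (mk3_32, 16384), (mk3_33, 32768), (mk3_34, 65536), (mk3_35, 131072), (mk3_36, 262144)], [(mk4_0, 262144), (mk4_1, 131072), (mk4_2, 65536), (mk4_3, 32768), (mk4_4, 16384), (mk4_5, 8192), (mk4_6, 4096), (mk4_7, 2048), (mk4_8, 1024), (mk4_9, 512), (mk4_10, 256), (mk4_11, 128), (mk4_12, 64), (mk4_13, 32), (mk4_14, 16), (mk4_15, 8), (mk4_16, 4), (mk4_17, 2), (mk4_18, 1), (mk4_19, 2), (mk4_20, 4), (mk4_21, 8), (mk4_22, 16), (mk4_23, 32), (mk4_24,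 64), (mk4_25, 128), (mk4_26, 256), (mk4_27, 512), (mk4_28, 1024), (mk4_29, 2048), (mk4_30, 4096), (mk4_31, 8192), (mk4_32, 16384), (mk4_33, 32768), (mk4_34, 65536), (mk4_35, 131072), (mk4_36, 262144)], [(mk5_0, 262144), (mk5_1, 131072), (mk5_2, 65536), (mk5_3, 32768), (mk5_4, 16384), (mk5_5, 8192), (mk5_6, 4096), (mk5_7, 2048), (mk5_8, 1024), (mk5_9, 512), (mk5_10, 256), (mk5_11, 128), (mk5_12, 64), (mk5_13, 32), (mk5_14, 16), (mk5_15, 8), (mk5_16, 4), (mk5_17, 2), (mk5_18, 1), (mk5_19, 2), (mk5_20, 4), (mk5_21, 8), (mk5_22, 16), (mk5_23, 32), (mk5_24, 64), (mk5_25, 128), (mk5_26, 256), (mk5_27, 512), (mk5_28, 1024), (mk5_29, 2048), (mk5_30, 4096), (mk5_31, 8192), (mk5_32, 16384), (mk5_33, 32768), (mk5_34, 65536), (mk5_35, 131072), (mk5_36, 262144)], [(mk6_0, 262144), (mk6_1, 131072), (mk6_2, 65536), (mk6_3,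 32768), (mk6_4, 16384), (mk6_5, 8192), (mk6_6, 4096), (mk6_7, 2048), (mk6_8, 1024), (mk6_9, 512), (mk6_10, 256), (mk6_11, 128), (mk6_12, 64), (mk6_13, 32), (mk6_14, 16), (mk6_15, 8), (mk6_16, 4), (mk6_17, 2), (mk6_18, 1), (mk6_19, 2), (mk6_20, 4), (mk6_21, 8), (mk6_22, 16), (mk6_23, 32), (mk6_24, 64), (mk6_25, 128), (mk6_26, 256), (mk6_27, 512), (mk6_28, 1024), (mk6_29, 2048), (mk6_30, 4096), (mk6_31, 8192), (mk6_32, 16384), (mk6_33, 32768), (mk6_34, 65536), (mk6_35, 131072), (mk6_36, 262144)], [(mk7_0, 262144), (mk7_1, 131072), (mk7_2, 65536), (mk7_3, 32768), (mk7_4, 16384), (mk7_5, 8192), (mk7_6, 4096), (mk7_7, 2048), (mk7_8, 1024), (mk7_9, 512), (mk7_10, 256), (mk7_11, 128), (mk7_12, 64), (mk7_13, 32), (mk7_14, 16), (mk7_15, 8), (mk7_16, 4), (mk7_17, 2), (mk7_18, 1), (mk7_19, 2), (mk7_20, 4), (mk7_21, 8),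 (mk7_22, 16), (mk7_23, 32), (mk7_24, 64), (mk7_25, 128), (mk7_26, 256), (mk7_27, 512), (mk7_28, 1024), (mk7_29, 2048), (mk7_30, 4096), (mk7_31, 8192), (mk7_32, 16384), (mk7_33, 32768), (mk7_34, 65536), (mk7_35, 131072), (mk7_36, 262144)], [(mk8_0, 262144), (mk8_1, 131072), (mk8_2, 65536), (mk8_3, 32768), (mk8_4, 16384), (mk8_5, 8192), (mk8_6, 4096), (mk8_7, 2048), (mk8_8, 1024), (mk8_9, 512), (mk8_10, 256), (mk8_11, 128), (mk8_12, 64), (mk8_13, 32), (mk8_14, 16), (mk8_15, 8), (mk8_16, 4), (mk8_17, 2), (mk8_18, 1), (mk8_19, 2), (mk8_20, 4), (mk8_21, 8), (mk8_22, 16), (mk8_23, 32), (mk8_24, 64), (mk8_25, 128), (mk8_26, 256), (mk8_27, 512), (mk8_28, 1024), (mk8_29, 2048), (mk8_30, 4096), (mk8_31, 8192), (mk8_32, 16384), (mk8_33, 32768), (mk8_34, 65536), (mk8_35, 131072), (mk8_36, 262144)], [(mk9_0, 262144), (mk9_1,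 131072), (mk9_2, 65536), (mk9_3, 32768), (mk9_4, 16384), (mk9_5, 8192), (mk9_6, 4096), (mk9_7, 2048), (mk9_8, 1024), (mk9_9, 512), (mk9_10, 256), (mk9_11, 128), (mk9_12, 64), (mk9_13, 32), (mk9_14, 16), (mk9_15, 8), (mk9_16, 4), (mk9_17, 2), (mk9_18, 1), (mk9_19, 2), (mk9_20, 4), (mk9_21, 8), (mk9_22, 16), (mk9_23, 32), (mk9_24, 64), (mk9_25, 128), (mk9_26, 256), (mk9_27, 512), (mk9_28, 1024), (mk9_29, 2048), (mk9_30, 4096), (mk9_31, 8192), (mk9_32, 16384), (mk9_33, 32768), (mk9_34, 65536), (mk9_35, 131072), (mk9_36, 262144)], [(mk10_0, 262144), (mk10_1, 131072), (mk10_2, 65536), (mk10_3, 32768), (mk10_4, 16384), (mk10_5, 8192), (mk10_6, 4096), (mk10_7, 2048), (mk10_8, 1024), (mk10_9, 512), (mk10_10, 256), (mk10_11, 128), (mk10_12, 64), (mk10_13, 32), (mk10_14, 16), (mk10_15, 8), (mk10_16, 4), (mk10_17, 2), (mk10_18,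 1), (mk10_19, 2), (mk10_20, 4), (mk10_21, 8), (mk10_22, 16), (mk10_23, 32), (mk10_24, 64), (mk10_25, 128), (mk10_26, 256), (mk10_27, 512), (mk10_28, 1024), (mk10_29, 2048), (mk10_30, 4096), (mk10_31, 8192), (mk10_32, 16384), (mk10_33, 32768), (mk10_34, 65536), (mk10_35, 131072), (mk10_36, 262144)], [(mk11_0, 262144), (mk11_1, 131072), (mk11_2, 65536), (mk11_3, 32768), (mk11_4, 16384), (mk11_5, 8192), (mk11_6, 4096), (mk11_7, 2048), (mk11_8, 1024), (mk11_9, 512), (mk11_10, 256), (mk11_11, 128), (mk11_12, 64), (mk11_13, 32), (mk11_14, 16), (mk11_15, 8), (mk11_16, 4), (mk11_17, 2), (mk11_18, 1), (mk11_19, 2), (mk11_20, 4), (mk11_21, 8), (mk11_22, 16), (mk11_23, 32), (mk11_24, 64), (mk11_25, 128), (mk11_26, 256), (mk11_27, 512), (mk11_28, 1024), (mk11_29, 2048), (mk11_30, 4096), (mk11_31, 8192), (mk11_32, 16384),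 (mk11_33, 32768), (mk11_34, 65536), (mk11_35, 131072), (mk11_36, 262144)], [(mk12_0, 262144), (mk12_1, 131072), (mk12_2, 65536), (mk12_3, 32768), (mk12_4, 16384), (mk12_5, 8192), (mk12_6, 4096), (mk12_7, 2048), (mk12_8, 1024), (mk12_9, 512), (mk12_10, 256), (mk12_11, 128), (mk12_12, 64), (mk12_13, 32), (mk12_14, 16), (mk12_15, 8), (mk12_16, 4), (mk12_17, 2), (mk12_18, 1), (mk12_19, 2), (mk12_20, 4), (mk12_21, 8), (mk12_22, 16), (mk12_23, 32), (mk12_24, 64), (mk12_25, 128), (mk12_26, 256), (mk12_27, 512), (mk12_28, 1024), (mk12_29, 2048), (mk12_30, 4096), (mk12_31, 8192), (mk12_32, 16384), (mk12_33, 32768), (mk12_34, 65536), (mk12_35, 131072), (mk12_36, 262144)]]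
noncomputable def INVm : ℕ := 14242959524133701664
def LTFm : List (FreeGroup Gen) := [1, l, k, a, b, c, d, e, f, g, j, h, i]
def hExps : List WExp := [(.l 3), (.l 4), (.l 5), (.l 6), (.l 7), (.l 8), (.l 9), (.l 11), (.l 12), (.l 10), (.l 1)]
def gExps : List WExp := [(.l 1), (.l 2), (.l 3), (.l 4), (.l 5), (.l 6), (.l 7), (.l 8), (.l 9), (.l 10), (.l 11), (.l 12)]

theorem netsOK : ntl.all (fun net => net.all (stOK (2 ^ (2 ^ 19)))) = true := by decide +kernel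
def idTasks : List (List (List ℕ × List ℕ) × List ℕ) := [
  ([([], []), ([1, 1], []), ([2, 2], []), ([3, 3], [])], [0, 1, 2, 3, 4, 5, 6, 7, 8, 9, 10, 11, 12, 13, 14, 15, 16, 17, 18]),
  ([([4, 4], []), ([5, 5], []), ([6, 6], [])], [0, 1, 2, 3, 4, 5, 6, 7, 8, 9, 10, 11, 12, 13, 14, 15, 16, 17, 18]),
  ([([7, 7], []), ([8, 8], []), ([9, 9], [])], [0, 1, 2, 3, 4, 5, 6, 7, 8, 9, 10, 11, 12, 13, 14, 15, 16, 17, 18]),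
  ([([10, 10], []), ([11, 11], []), ([12, 12], [])], [0, 1, 2, 3, 4, 5, 6, 7, 8, 9, 10, 11, 12, 13, 14, 15, 16, 17, 18]),
  ([([1, 1], [])], [0, 1, 2, 3, 4, 5, 6, 7, 8, 9, 10, 11, 12, 13, 14, 15, 16, 17, 18]),
  ([([1, 2, 1, 2, 1, 2], [])], [0, 1, 2, 3, 4, 5, 6, 7, 8, 9, 10, 11, 12, 13, 14, 15, 16, 17, 18]),
  ([([1, 3, 1, 3], [])], [0, 1, 2, 3, 4, 5, 6, 7, 8, 9, 10, 11, 12, 13, 14, 15, 16, 17, 18]),
  ([([1, 4, 1, 4], [])], [0, 1, 2, 3, 4, 5, 6, 7, 8, 9, 10, 11, 12, 13, 14, 15, 16, 17, 18]),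
  ([([1, 5, 1, 5], [])], [0, 1, 2, 3, 4, 5, 6, 7, 8, 9, 10, 11, 12, 13, 14, 15, 16, 17, 18]),
  ([([1, 6, 1, 6], [])], [0, 1, 2, 3, 4, 5, 6, 7, 8, 9, 10, 11, 12, 13, 14, 15, 16, 17, 18]),
  ([([1, 7, 1, 7], [])], [0, 1, 2, 3, 4, 5, 6, 7, 8, 9, 10, 11, 12, 13, 14, 15, 16, 17, 18]),
  ([([1, 8, 1, 8], [])], [0, 1, 2, 3, 4, 5, 6, 7, 8, 9, 10, 11, 12, 13, 14, 15, 16, 17, 18]),
  ([([1, 9, 1, 9], [])], [0, 1, 2, 3, 4, 5, 6, 7, 8, 9, 10, 11, 12, 13, 14, 15, 16, 17, 18]),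
  ([([1, 10, 1, 10], [])], [0, 1, 2, 3, 4, 5, 6, 7, 8, 9, 10, 11, 12, 13, 14, 15, 16, 17, 18]),
  ([([1, 11, 1, 11], [])], [0, 1, 2, 3, 4, 5, 6, 7, 8, 9, 10, 11, 12, 13, 14, 15, 16, 17, 18]),
  ([([1, 12, 1, 12], [])], [0, 1, 2, 3, 4, 5, 6, 7, 8, 9, 10, 11, 12, 13, 14, 15, 16, 17, 18]),
  ([([2, 1, 2, 1, 2, 1], [])], [0, 1, 2, 3, 4, 5, 6, 7, 8, 9, 10, 11, 12, 13, 14, 15, 16, 17, 18]),
  ([([2, 2], [])], [0, 1, 2, 3, 4, 5, 6, 7, 8, 9, 10, 11, 12, 13, 14, 15, 16, 17, 18]),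
  ([([2, 3, 2, 3, 2, 3], [])], [0, 1, 2, 3, 4, 5, 6, 7, 8, 9, 10, 11, 12, 13, 14, 15, 16, 17, 18]),
  ([([2, 4, 2, 4], [])], [0, 1, 2, 3, 4, 5, 6, 7, 8, 9, 10, 11, 12, 13, 14, 15, 16, 17, 18]),
  ([([2, 5, 2, 5], [])], [0, 1, 2, 3, 4, 5, 6, 7, 8, 9, 10, 11, 12, 13, 14, 15, 16, 17, 18]),
  ([([2, 6, 2, 6], [])], [0, 1, 2, 3, 4, 5, 6, 7, 8, 9, 10, 11, 12, 13, 14, 15, 16, 17, 18]),
  ([([2, 7, 2, 7], [])], [0, 1, 2, 3, 4, 5, 6, 7, 8, 9, 10, 11, 12, 13, 14, 15, 16, 17, 18]),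
  ([([2, 8, 2, 8], [])], [0, 1, 2, 3, 4, 5, 6, 7, 8, 9, 10, 11, 12, 13, 14, 15, 16, 17, 18]),
  ([([2, 9, 2, 9], [])], [0, 1, 2, 3, 4, 5, 6, 7, 8, 9, 10, 11, 12, 13, 14, 15, 16, 17, 18]),
  ([([2, 10, 2, 10], [])], [0, 1, 2, 3, 4, 5, 6, 7, 8, 9, 10, 11, 12, 13, 14, 15, 16, 17, 18]),
  ([([2, 11, 2, 11], [])], [0, 1, 2, 3, 4, 5, 6, 7, 8, 9, 10, 11, 12, 13, 14, 15, 16, 17, 18]),
  ([([2, 12, 2, 12], [])], [0, 1, 2, 3, 4, 5, 6, 7, 8, 9, 10, 11, 12, 13, 14, 15, 16, 17, 18]),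
  ([([3, 1, 3, 1], [])], [0, 1, 2, 3, 4, 5, 6, 7, 8, 9, 10, 11, 12, 13, 14, 15, 16, 17, 18]),
  ([([3, 2, 3, 2, 3, 2], [])], [0, 1, 2, 3, 4, 5, 6, 7, 8, 9, 10, 11, 12, 13, 14, 15, 16, 17, 18]),
  ([([3, 3], [])], [0, 1, 2, 3, 4, 5, 6, 7, 8, 9, 10, 11, 12, 13, 14, 15, 16, 17, 18]),
  ([([3, 4, 3, 4, 3, 4], [])], [0, 1, 2, 3, 4, 5, 6, 7, 8, 9, 10, 11, 12, 13, 14, 15, 16, 17, 18]),
  ([([3, 5, 3, 5], [])], [0, 1, 2, 3, 4, 5, 6, 7, 8, 9, 10, 11, 12, 13, 14, 15, 16, 17, 18]),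
  ([([3, 6, 3, 6], [])], [0, 1, 2, 3, 4, 5, 6, 7, 8, 9, 10, 11, 12, 13, 14, 15, 16, 17, 18]),
  ([([3, 7, 3, 7], [])], [0, 1, 2, 3, 4, 5, 6, 7, 8, 9, 10, 11, 12, 13, 14, 15, 16, 17, 18]),
  ([([3, 8, 3, 8], [])], [0, 1, 2, 3, 4, 5, 6, 7, 8, 9, 10, 11, 12, 13, 14, 15, 16, 17, 18]),
  ([([3, 9, 3, 9], [])], [0, 1, 2, 3, 4, 5, 6, 7, 8, 9, 10, 11, 12, 13, 14, 15, 16, 17, 18]),
  ([([3, 10, 3, 10], [])], [0, 1, 2, 3, 4, 5, 6, 7, 8, 9, 10, 11, 12, 13, 14, 15, 16, 17, 18]),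
  ([([3, 11, 3, 11], [])], [0, 1, 2, 3, 4, 5, 6, 7, 8, 9, 10, 11, 12, 13, 14, 15, 16, 17, 18]),
  ([([3, 12, 3, 12], [])], [0, 1, 2, 3, 4, 5, 6, 7, 8, 9, 10, 11, 12, 13, 14, 15, 16, 17, 18]),
  ([([4, 1, 4, 1], [])], [0, 1, 2, 3, 4, 5, 6, 7, 8, 9, 10, 11, 12, 13, 14, 15, 16, 17, 18]),
  ([([4, 2, 4, 2], [])], [0, 1, 2, 3, 4, 5, 6, 7, 8, 9, 10, 11, 12, 13, 14, 15, 16, 17, 18]),
  ([([4, 3, 4, 3, 4, 3], [])], [0, 1, 2, 3, 4, 5, 6, 7, 8, 9, 10, 11, 12, 13, 14, 15, 16, 17, 18]),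
  ([([4, 4], [])], [0, 1, 2, 3, 4, 5, 6, 7, 8, 9, 10, 11, 12, 13, 14, 15, 16, 17, 18]),
  ([([4, 5, 4, 5, 4, 5], [])], [0, 1, 2, 3, 4, 5, 6, 7, 8, 9, 10, 11, 12, 13, 14, 15, 16, 17, 18]),
  ([([4, 6, 4, 6], [])], [0, 1, 2, 3, 4, 5, 6, 7, 8, 9, 10, 11, 12, 13, 14, 15, 16, 17, 18]),
  ([([4, 7, 4, 7], [])], [0, 1, 2, 3, 4, 5, 6, 7, 8, 9, 10, 11, 12, 13, 14, 15, 16, 17, 18]),
  ([([4, 8, 4, 8], [])], [0, 1, 2, 3, 4, 5, 6, 7, 8, 9, 10, 11, 12, 13, 14, 15, 16, 17, 18]),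
  ([([4, 9, 4, 9], [])], [0, 1, 2, 3, 4, 5, 6, 7, 8, 9, 10, 11, 12, 13, 14, 15, 16, 17, 18]),
  ([([4, 10, 4, 10], [])], [0, 1, 2, 3, 4, 5, 6, 7, 8, 9, 10, 11, 12, 13, 14, 15, 16, 17, 18]),
  ([([4, 11, 4, 11], [])], [0, 1, 2, 3, 4, 5, 6, 7, 8, 9, 10, 11, 12, 13, 14, 15, 16, 17, 18]),
  ([([4, 12, 4, 12], [])], [0, 1, 2, 3, 4, 5, 6, 7, 8, 9, 10, 11, 12, 13, 14, 15, 16, 17, 18]),
  ([([5, 1, 5, 1], [])], [0, 1, 2, 3, 4, 5, 6, 7, 8, 9, 10, 11, 12, 13, 14, 15, 16, 17, 18]),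
  ([([5, 2, 5, 2], [])], [0, 1, 2, 3, 4, 5, 6, 7, 8, 9, 10, 11, 12, 13, 14, 15, 16, 17, 18]),
  ([([5, 3, 5, 3], [])], [0, 1, 2, 3, 4, 5, 6, 7, 8, 9, 10, 11, 12, 13, 14, 15, 16, 17, 18]),
  ([([5, 4, 5, 4, 5, 4], [])], [0, 1, 2, 3, 4, 5, 6, 7, 8, 9, 10, 11, 12, 13, 14, 15, 16, 17, 18]),
  ([([5, 5], [])], [0, 1, 2, 3, 4, 5, 6, 7, 8, 9, 10, 11, 12, 13, 14, 15, 16, 17, 18]),
  ([([5, 6, 5, 6, 5, 6], [])], [0, 1, 2, 3, 4, 5, 6, 7, 8, 9, 10, 11, 12, 13, 14, 15, 16, 17, 18]),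
  ([([5, 7, 5, 7], [])], [0, 1, 2, 3, 4, 5, 6, 7, 8, 9, 10, 11, 12, 13, 14, 15, 16, 17, 18]),
  ([([5, 8, 5, 8], [])], [0, 1, 2, 3, 4, 5, 6, 7, 8, 9, 10, 11, 12, 13, 14, 15, 16, 17, 18]),
  ([([5, 9, 5, 9], [])], [0, 1, 2, 3, 4, 5, 6, 7, 8, 9, 10, 11, 12, 13, 14, 15, 16, 17, 18]),
  ([([5, 10, 5, 10], [])], [0, 1, 2, 3, 4, 5, 6, 7, 8, 9, 10, 11, 12, 13, 14, 15, 16, 17, 18]),
  ([([5, 11, 5, 11], [])], [0, 1, 2, 3, 4, 5, 6, 7, 8, 9, 10, 11, 12, 13, 14, 15, 16, 17, 18]),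
  ([([5, 12, 5, 12], [])], [0, 1, 2, 3, 4, 5, 6, 7, 8, 9, 10, 11, 12, 13, 14, 15, 16, 17, 18]),
  ([([6, 1, 6, 1], [])], [0, 1, 2, 3, 4, 5, 6, 7, 8, 9, 10, 11, 12, 13, 14, 15, 16, 17, 18]),
  ([([6, 2, 6, 2], [])], [0, 1, 2, 3, 4, 5, 6, 7, 8, 9, 10, 11, 12, 13, 14, 15, 16, 17, 18]),
  ([([6, 3, 6, 3], [])], [0, 1, 2, 3, 4, 5, 6, 7, 8, 9, 10, 11, 12, 13, 14, 15, 16, 17, 18]),
  ([([6, 4, 6, 4], [])], [0, 1, 2, 3, 4, 5, 6, 7, 8, 9, 10, 11, 12, 13, 14, 15, 16, 17, 18]),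
  ([([6, 5, 6, 5, 6, 5], [])], [0, 1, 2, 3, 4, 5, 6, 7, 8, 9, 10, 11, 12, 13, 14, 15, 16, 17, 18]),
  ([([6, 6], [])], [0, 1, 2, 3, 4, 5, 6, 7, 8, 9, 10, 11, 12, 13, 14, 15, 16, 17, 18]),
  ([([6, 7, 6, 7, 6, 7], [])], [0, 1, 2, 3, 4, 5, 6, 7, 8, 9, 10, 11, 12, 13, 14, 15, 16, 17, 18]),
  ([([6, 8, 6, 8], [])], [0, 1, 2, 3, 4, 5, 6, 7, 8, 9, 10, 11, 12, 13, 14, 15, 16, 17, 18]),
  ([([6, 9, 6, 9], [])], [0, 1, 2, 3, 4, 5, 6, 7, 8, 9, 10, 11, 12, 13, 14, 15, 16, 17, 18]),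
  ([([6, 10, 6, 10], [])], [0, 1, 2, 3, 4, 5, 6, 7, 8, 9, 10, 11, 12, 13, 14, 15, 16, 17, 18]),
  ([([6, 11, 6, 11, 6, 11], [])], [0, 1, 2, 3, 4, 5, 6, 7, 8, 9, 10, 11, 12, 13, 14, 15, 16, 17, 18]),
  ([([6, 12, 6, 12], [])], [0, 1, 2, 3, 4, 5, 6, 7, 8, 9, 10, 11, 12, 13, 14, 15, 16, 17, 18]),
  ([([7, 1, 7, 1], [])], [0, 1, 2, 3, 4, 5, 6, 7, 8, 9, 10, 11, 12, 13, 14, 15, 16, 17, 18]),
  ([([7, 2, 7, 2], [])], [0, 1, 2, 3, 4, 5, 6, 7, 8, 9, 10, 11, 12, 13, 14, 15, 16, 17, 18]),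
  ([([7, 3, 7, 3], [])], [0, 1, 2, 3, 4, 5, 6, 7, 8, 9, 10, 11, 12, 13, 14, 15, 16, 17, 18]),
  ([([7, 4, 7, 4], [])], [0, 1, 2, 3, 4, 5, 6, 7, 8, 9, 10, 11, 12, 13, 14, 15, 16, 17, 18]),
  ([([7, 5, 7, 5], [])], [0, 1, 2, 3, 4, 5, 6, 7, 8, 9, 10, 11, 12, 13, 14, 15, 16, 17, 18]),
  ([([7, 6, 7, 6, 7, 6], [])], [0, 1, 2, 3, 4, 5, 6, 7, 8, 9, 10, 11, 12, 13, 14, 15, 16, 17, 18]),
  ([([7, 7], [])], [0, 1, 2, 3, 4, 5, 6, 7, 8, 9, 10, 11, 12, 13, 14, 15, 16, 17, 18]),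
  ([([7, 8, 7, 8, 7, 8], [])], [0, 1, 2, 3, 4, 5, 6, 7, 8, 9, 10, 11, 12, 13, 14, 15, 16, 17, 18]),
  ([([7, 9, 7, 9], [])], [0, 1, 2, 3, 4, 5, 6, 7, 8, 9, 10, 11, 12, 13, 14, 15, 16, 17, 18]),
  ([([7, 10, 7, 10], [])], [0, 1, 2, 3, 4, 5, 6, 7, 8, 9, 10, 11, 12, 13, 14, 15, 16, 17, 18]),
  ([([7, 11, 7, 11], [])], [0, 1, 2, 3, 4, 5, 6, 7, 8, 9, 10, 11, 12, 13, 14, 15, 16, 17, 18]),
  ([([7, 12, 7, 12], [])], [0, 1, 2, 3, 4, 5, 6, 7, 8, 9, 10, 11, 12, 13, 14, 15, 16, 17, 18]),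
  ([([8, 1, 8, 1], [])], [0, 1, 2, 3, 4, 5, 6, 7, 8, 9, 10, 11, 12, 13, 14, 15, 16, 17, 18]),
  ([([8, 2, 8, 2], [])], [0, 1, 2, 3, 4, 5, 6, 7, 8, 9, 10, 11, 12, 13, 14, 15, 16, 17, 18]),
  ([([8, 3, 8, 3], [])], [0, 1, 2, 3, 4, 5, 6, 7, 8, 9, 10, 11, 12, 13, 14, 15, 16, 17, 18]),
  ([([8, 4, 8, 4], [])], [0, 1, 2, 3, 4, 5, 6, 7, 8, 9, 10, 11, 12, 13, 14, 15, 16, 17, 18]),
  ([([8, 5, 8, 5], [])], [0, 1, 2, 3, 4, 5, 6, 7, 8, 9, 10, 11, 12, 13, 14, 15, 16, 17, 18]),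
  ([([8, 6, 8, 6], [])], [0, 1, 2, 3, 4, 5, 6, 7, 8, 9, 10, 11, 12, 13, 14, 15, 16, 17, 18]),
  ([([8, 7, 8, 7, 8, 7], [])], [0, 1, 2, 3, 4, 5, 6, 7, 8, 9, 10, 11, 12, 13, 14, 15, 16, 17, 18]),
  ([([8, 8], [])], [0, 1, 2, 3, 4, 5, 6, 7, 8, 9, 10, 11, 12, 13, 14, 15, 16, 17, 18]),
  ([([8, 9, 8, 9, 8, 9], [])], [0, 1, 2, 3, 4, 5, 6, 7, 8, 9, 10, 11, 12, 13, 14, 15, 16, 17, 18]),
  ([([8, 10, 8, 10], [])], [0, 1, 2, 3, 4, 5, 6, 7, 8, 9, 10, 11, 12, 13, 14, 15, 16, 17, 18]),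
  ([([8, 11, 8, 11], [])], [0, 1, 2, 3, 4, 5, 6, 7, 8, 9, 10, 11, 12, 13, 14, 15, 16, 17, 18]),
  ([([8, 12, 8, 12], [])], [0, 1, 2, 3, 4, 5, 6, 7, 8, 9, 10, 11, 12, 13, 14, 15, 16, 17, 18]),
  ([([9, 1, 9, 1], [])], [0, 1, 2, 3, 4, 5, 6, 7, 8, 9, 10, 11, 12, 13, 14, 15, 16, 17, 18]),
  ([([9, 2, 9, 2], [])], [0, 1, 2, 3, 4, 5, 6, 7, 8, 9, 10, 11, 12, 13, 14, 15, 16, 17, 18]),
  ([([9, 3, 9, 3], [])], [0, 1, 2, 3, 4, 5, 6, 7, 8, 9, 10, 11, 12, 13, 14, 15, 16, 17, 18]),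
  ([([9, 4, 9, 4], [])], [0, 1, 2, 3, 4, 5, 6, 7, 8, 9, 10, 11, 12, 13, 14, 15, 16, 17, 18]),
  ([([9, 5, 9, 5], [])], [0, 1, 2, 3, 4, 5, 6, 7, 8, 9, 10, 11, 12, 13, 14, 15, 16, 17, 18]),
  ([([9, 6, 9, 6], [])], [0, 1, 2, 3, 4, 5, 6, 7, 8, 9, 10, 11, 12, 13, 14, 15, 16, 17, 18]),
  ([([9, 7, 9, 7], [])], [0, 1, 2, 3, 4, 5, 6, 7, 8, 9, 10, 11, 12, 13, 14, 15, 16, 17, 18]),
  ([([9, 8, 9, 8, 9, 8], [])], [0, 1, 2, 3, 4, 5, 6, 7, 8, 9, 10, 11, 12, 13, 14, 15, 16, 17, 18]),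
  ([([9, 9], [])], [0, 1, 2, 3, 4, 5, 6, 7, 8, 9, 10, 11, 12, 13, 14, 15, 16, 17, 18]),
  ([([9, 10, 9, 10, 9, 10], [])], [0, 1, 2, 3, 4, 5, 6, 7, 8, 9, 10, 11, 12, 13, 14, 15, 16, 17, 18]),
  ([([9, 11, 9, 11], [])], [0, 1, 2, 3, 4, 5, 6, 7, 8, 9, 10, 11, 12, 13, 14, 15, 16, 17, 18]),
  ([([9, 12, 9, 12], [])], [0, 1, 2, 3, 4, 5, 6, 7, 8, 9, 10, 11, 12, 13, 14, 15, 16, 17, 18]),
  ([([10, 1, 10, 1], [])], [0, 1, 2, 3, 4, 5, 6, 7, 8, 9, 10, 11, 12, 13, 14, 15, 16, 17, 18]),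
  ([([10, 2, 10, 2], [])], [0, 1, 2, 3, 4, 5, 6, 7, 8, 9, 10, 11, 12, 13, 14, 15, 16, 17, 18]),
  ([([10, 3, 10, 3], [])], [0, 1, 2, 3, 4, 5, 6, 7, 8, 9, 10, 11, 12, 13, 14, 15, 16, 17, 18]),
  ([([10, 4, 10, 4], [])], [0, 1, 2, 3, 4, 5, 6, 7, 8, 9, 10, 11, 12, 13, 14, 15, 16, 17, 18]),
  ([([10, 5, 10, 5], [])], [0, 1, 2, 3, 4, 5, 6, 7, 8, 9, 10, 11, 12, 13, 14, 15, 16, 17, 18]),
  ([([10, 6, 10, 6], [])], [0, 1, 2, 3, 4, 5, 6, 7, 8, 9, 10, 11, 12, 13, 14, 15, 16, 17, 18]),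
  ([([10, 7, 10, 7], [])], [0, 1, 2, 3, 4, 5, 6, 7, 8, 9, 10, 11, 12, 13, 14, 15, 16, 17, 18]),
  ([([10, 8, 10, 8], [])], [0, 1, 2, 3, 4, 5, 6, 7, 8, 9, 10, 11, 12, 13, 14, 15, 16, 17, 18]),
  ([([10, 9, 10, 9, 10, 9], [])], [0, 1, 2, 3, 4, 5, 6, 7, 8, 9, 10, 11, 12, 13, 14, 15, 16, 17, 18]),
  ([([10, 10], []), ([10, 11, 10, 11], [])], [0, 1, 2, 3, 4, 5, 6, 7, 8, 9, 10, 11, 12, 13, 14, 15, 16, 17, 18]),
  ([([10, 12, 10, 12], [])], [0, 1, 2, 3, 4, 5, 6, 7, 8, 9, 10, 11, 12, 13, 14, 15, 16, 17, 18]),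
  ([([11, 1, 11, 1], [])], [0, 1, 2, 3, 4, 5, 6, 7, 8, 9, 10, 11, 12, 13, 14, 15, 16, 17, 18]),
  ([([11, 2, 11, 2], [])], [0, 1, 2, 3, 4, 5, 6, 7, 8, 9, 10, 11, 12, 13, 14, 15, 16, 17, 18]),
  ([([11, 3, 11, 3], [])], [0, 1, 2, 3, 4, 5, 6, 7, 8, 9, 10, 11, 12, 13, 14, 15, 16, 17, 18]),
  ([([11, 4, 11, 4], [])], [0, 1, 2, 3, 4, 5, 6, 7, 8, 9, 10, 11, 12, 13, 14, 15, 16, 17, 18]),
  ([([11, 5, 11, 5], [])], [0, 1, 2, 3, 4, 5, 6, 7, 8, 9, 10, 11, 12, 13, 14, 15, 16, 17, 18]),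
  ([([11, 6, 11, 6, 11, 6], [])], [0, 1, 2, 3, 4, 5, 6, 7, 8, 9, 10, 11, 12, 13, 14, 15, 16, 17, 18]),
  ([([11, 7, 11, 7], [])], [0, 1, 2, 3, 4, 5, 6, 7, 8, 9, 10, 11, 12, 13, 14, 15, 16, 17, 18]),
  ([([11, 8, 11, 8], [])], [0, 1, 2, 3, 4, 5, 6, 7, 8, 9, 10, 11, 12, 13, 14, 15, 16, 17, 18]),
  ([([11, 9, 11, 9], [])], [0, 1, 2, 3, 4, 5, 6, 7, 8, 9, 10, 11, 12, 13, 14, 15, 16, 17, 18]),
  ([([11, 10, 11, 10], []), ([11, 11], [])], [0, 1, 2, 3, 4, 5, 6, 7, 8, 9, 10, 11, 12, 13, 14, 15, 16, 17, 18]),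
  ([([11, 12, 11, 12, 11, 12], [])], [0, 1, 2, 3, 4, 5, 6, 7, 8, 9, 10, 11, 12, 13, 14, 15, 16, 17, 18]),
  ([([12, 1, 12, 1], [])], [0, 1, 2, 3, 4, 5, 6, 7, 8, 9, 10, 11, 12, 13, 14, 15, 16, 17, 18]),
  ([([12, 2, 12, 2], [])], [0, 1, 2, 3, 4, 5, 6, 7, 8, 9, 10, 11, 12, 13, 14, 15, 16, 17, 18]),
  ([([12, 3, 12, 3], [])], [0, 1, 2, 3, 4, 5, 6, 7, 8, 9, 10, 11, 12, 13, 14, 15, 16, 17, 18]),
  ([([12, 4, 12, 4], [])], [0, 1, 2, 3, 4, 5, 6, 7, 8, 9, 10, 11, 12, 13, 14, 15, 16, 17, 18]),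
  ([([12, 5, 12, 5], [])], [0, 1, 2, 3, 4, 5, 6, 7, 8, 9, 10, 11, 12, 13, 14, 15, 16, 17, 18]),
  ([([12, 6, 12, 6], [])], [0, 1, 2, 3, 4, 5, 6, 7, 8, 9, 10, 11, 12, 13, 14, 15, 16, 17, 18]),
  ([([12, 7, 12, 7], [])], [0, 1, 2, 3, 4, 5, 6, 7, 8, 9, 10, 11, 12, 13, 14, 15, 16, 17, 18]),
  ([([12, 8, 12, 8], [])], [0, 1, 2, 3, 4, 5, 6, 7, 8, 9, 10, 11, 12, 13, 14, 15, 16, 17, 18]),
  ([([12, 9, 12, 9], [])], [0, 1, 2, 3, 4, 5, 6, 7, 8, 9, 10, 11, 12, 13, 14, 15, 16, 17, 18]),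
  ([([12, 10, 12, 10], [])], [0, 1, 2, 3, 4, 5, 6, 7, 8, 9, 10, 11, 12, 13, 14, 15, 16, 17, 18]),
  ([([12, 11, 12, 11, 12, 11], [])], [0, 1, 2, 3, 4, 5, 6, 7, 8, 9, 10, 11, 12, 13, 14, 15, 16, 17, 18]),
  ([([12, 12], [])], [0, 1, 2, 3, 4, 5, 6, 7, 8, 9, 10, 11, 12, 13, 14, 15, 16, 17, 18]),
  ([([1, 11, 8, 7, 6, 5, 4, 3, 11, 8, 7, 6, 5, 4, 3, 11, 8, 7, 6, 5, 4, 3, 11, 8, 7, 6, 5, 4, 3, 11, 8, 7, 6, 5, 4, 3, 11, 8, 7, 6, 5, 4, 3, 11, 8, 7, 6, 5, 4, 3, 11, 8, 7, 6, 5, 4, 3, 11, 8, 7, 6, 5, 4, 3], [])], [0, 1]),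
  ([([1, 11, 8, 7, 6, 5, 4, 3, 11, 8, 7, 6, 5, 4, 3, 11, 8, 7, 6, 5, 4, 3, 11, 8, 7, 6, 5, 4, 3, 11, 8, 7, 6, 5, 4, 3, 11, 8, 7, 6, 5, 4, 3, 11, 8, 7, 6, 5, 4, 3, 11, 8, 7, 6, 5, 4, 3, 11, 8, 7, 6, 5, 4, 3], [])], [2, 3]),
  ([([1, 11, 8, 7, 6, 5, 4, 3, 11, 8, 7, 6, 5, 4, 3, 11, 8, 7, 6, 5, 4, 3, 11, 8, 7, 6, 5, 4, 3, 11, 8, 7, 6, 5, 4, 3, 11, 8, 7, 6, 5, 4, 3, 11, 8, 7, 6, 5, 4, 3, 11, 8, 7, 6, 5, 4, 3, 11, 8, 7, 6, 5, 4, 3], [])], [4, 5]),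
  ([([1, 11, 8, 7, 6, 5, 4, 3, 11, 8, 7, 6, 5, 4, 3, 11, 8, 7, 6, 5, 4, 3, 11, 8, 7, 6, 5, 4, 3, 11, 8, 7, 6, 5, 4, 3, 11, 8, 7, 6, 5, 4, 3, 11, 8, 7, 6, 5, 4, 3, 11, 8, 7, 6, 5, 4, 3, 11, 8, 7, 6, 5, 4, 3], [])], [6, 7]),
  ([([1, 11, 8, 7, 6, 5, 4, 3, 11, 8, 7, 6, 5, 4, 3, 11, 8, 7, 6, 5, 4, 3, 11, 8, 7, 6, 5, 4, 3, 11, 8, 7, 6, 5, 4, 3, 11, 8, 7, 6, 5, 4, 3, 11, 8, 7, 6, 5, 4, 3, 11, 8, 7, 6, 5, 4, 3, 11, 8, 7, 6, 5, 4, 3], [])], [8, 9]),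
  ([([1, 11, 8, 7, 6, 5, 4, 3, 11, 8, 7, 6, 5, 4, 3, 11, 8, 7, 6, 5, 4, 3, 11, 8, 7, 6, 5, 4, 3, 11, 8, 7, 6, 5, 4, 3, 11, 8, 7, 6, 5, 4, 3, 11, 8, 7, 6, 5, 4, 3, 11, 8, 7, 6, 5, 4, 3, 11, 8, 7, 6, 5, 4, 3], [])], [10, 11]),
  ([([1, 11, 8, 7, 6, 5, 4, 3, 11, 8, 7, 6, 5, 4, 3, 11, 8, 7, 6, 5, 4, 3, 11, 8, 7, 6, 5, 4, 3, 11, 8, 7, 6, 5, 4, 3, 11, 8, 7, 6, 5, 4, 3, 11, 8, 7, 6, 5, 4, 3, 11, 8, 7, 6, 5, 4, 3, 11, 8, 7, 6, 5, 4, 3], [])], [12, 13]),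
  ([([1, 11, 8, 7, 6, 5, 4, 3, 11, 8, 7, 6, 5, 4, 3, 11, 8, 7, 6, 5, 4, 3, 11, 8, 7, 6, 5, 4, 3, 11, 8, 7, 6, 5, 4, 3, 11, 8, 7, 6, 5, 4, 3, 11, 8, 7, 6, 5, 4, 3, 11, 8, 7, 6, 5, 4, 3, 11, 8, 7, 6, 5, 4, 3], [])], [14, 15]),
  ([([1, 11, 8, 7, 6, 5, 4, 3, 11, 8, 7, 6, 5, 4, 3, 11, 8, 7, 6, 5, 4, 3, 11, 8, 7, 6, 5, 4, 3, 11, 8, 7, 6, 5, 4, 3, 11, 8, 7, 6, 5, 4, 3, 11, 8, 7, 6, 5, 4, 3, 11, 8, 7, 6, 5, 4, 3, 11, 8, 7, 6, 5, 4, 3], [])], [16, 17]),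
  ([([1, 11, 8, 7, 6, 5, 4, 3, 11, 8, 7, 6, 5, 4, 3, 11, 8, 7, 6, 5, 4, 3, 11, 8, 7, 6, 5, 4, 3, 11, 8, 7, 6, 5, 4, 3, 11, 8, 7, 6, 5, 4, 3, 11, 8, 7, 6, 5, 4, 3, 11, 8, 7, 6, 5, 4, 3, 11, 8, 7, 6, 5, 4, 3], [])], [18]),
  ([([6, 5, 4, 3, 2, 1, 6, 7, 8, 9, 10, 6, 11, 12, 6, 5, 4, 3, 2, 1, 6, 7, 8, 9, 10, 6, 11, 12, 6, 5, 4, 3, 2, 1, 6, 7, 8, 9, 10, 6, 11, 12, 6, 5, 4, 3, 2, 1, 6, 7, 8, 9, 10, 6, 11, 12, 6, 5, 4, 3, 2, 1, 6, 7, 8, 9, 10, 6, 11, 12, 6, 5, 4, 3, 2, 1, 6, 7, 8, 9, 10, 6, 11, 12, 6, 5, 4, 3, 2, 1, 6, 7, 8, 9, 10, 6, 11, 12, 6, 5, 4, 3, 2, 1, 6, 7, 8, 9, 10, 6, 11, 12, 6, 5, 4, 3, 2, 1, 6, 7, 8, 9, 10, 6, 11, 12, 6, 5, 4, 3, 2, 1, 6, 7, 8, 9, 10, 6, 11, 12, 6, 5, 4, 3, 2, 1, 6, 7, 8, 9, 10, 6, 11, 12, 6, 5, 4, 3, 2, 1, 6, 7, 8, 9, 10, 6, 11, 12, 6, 5, 4, 3, 2, 1, 6, 7, 8, 9, 10, 6, 11, 12, 6, 5, 4,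 3, 2, 1, 6, 7, 8, 9, 10, 6, 11, 12, 6, 5, 4, 3, 2, 1, 6, 7, 8, 9, 10, 6, 11, 12, 6, 5, 4, 3, 2, 1, 6, 7, 8, 9, 10, 6, 11, 12, 6, 5, 4, 3, 2, 1, 6, 7, 8, 9, 10, 6, 11, 12], [])], [0]),
  ([([6, 5, 4, 3, 2, 1, 6, 7, 8, 9, 10, 6, 11, 12, 6, 5, 4, 3, 2, 1, 6, 7, 8, 9, 10, 6, 11, 12, 6, 5, 4, 3, 2, 1, 6, 7, 8, 9, 10, 6, 11, 12, 6, 5, 4, 3, 2, 1, 6, 7, 8, 9, 10, 6, 11, 12, 6, 5, 4, 3, 2, 1, 6, 7, 8, 9, 10, 6, 11, 12, 6, 5, 4, 3, 2, 1, 6, 7, 8, 9, 10, 6, 11, 12, 6, 5, 4, 3, 2, 1, 6, 7, 8, 9, 10, 6, 11, 12, 6, 5, 4, 3, 2, 1, 6, 7, 8, 9, 10, 6, 11, 12, 6, 5, 4, 3, 2, 1, 6, 7, 8, 9, 10, 6, 11, 12, 6, 5, 4, 3, 2, 1, 6, 7, 8, 9, 10, 6, 11, 12, 6, 5, 4, 3, 2, 1, 6, 7, 8, 9, 10, 6, 11, 12, 6, 5, 4, 3, 2, 1, 6, 7, 8, 9, 10, 6, 11, 12, 6, 5, 4, 3, 2, 1, 6, 7, 8, 9, 10, 6, 11, 12, 6, 5, 4, 3, 2, 1, 6, 7, 8, 9, 10, 6, 11, 12,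 6, 5, 4, 3, 2, 1, 6, 7, 8, 9, 10, 6, 11, 12, 6, 5, 4, 3, 2, 1, 6, 7, 8, 9, 10, 6, 11, 12, 6, 5, 4, 3, 2, 1, 6, 7, 8, 9, 10, 6, 11, 12], [])], [1]),
  ([([6, 5, 4, 3, 2, 1, 6, 7, 8, 9, 10, 6, 11, 12, 6, 5, 4, 3, 2, 1, 6, 7, 8, 9, 10, 6, 11, 12, 6, 5, 4, 3, 2, 1, 6, 7, 8, 9, 10, 6, 11, 12, 6, 5, 4, 3, 2, 1, 6, 7, 8, 9, 10, 6, 11, 12, 6, 5, 4, 3, 2, 1, 6, 7, 8, 9, 10, 6, 11, 12, 6, 5, 4, 3, 2, 1, 6, 7, 8, 9, 10, 6, 11, 12, 6, 5, 4, 3, 2, 1, 6, 7, 8, 9, 10, 6, 11, 12, 6, 5, 4, 3, 2, 1, 6, 7, 8, 9, 10, 6, 11, 12, 6, 5, 4, 3, 2, 1, 6, 7, 8, 9, 10, 6, 11, 12, 6, 5, 4, 3, 2, 1, 6, 7, 8, 9, 10, 6, 11, 12, 6, 5, 4, 3, 2, 1, 6, 7, 8, 9, 10, 6, 11, 12, 6, 5, 4, 3, 2, 1, 6, 7, 8, 9, 10, 6, 11, 12, 6, 5, 4, 3, 2, 1, 6, 7, 8, 9, 10, 6, 11, 12, 6, 5, 4, 3, 2, 1, 6, 7, 8, 9, 10, 6, 11, 12, 6, 5, 4, 3, 2, 1, 6, 7, 8, 9, 10, 6,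 11, 12, 6, 5, 4, 3, 2, 1, 6, 7, 8, 9, 10, 6, 11, 12, 6, 5, 4, 3, 2, 1, 6, 7, 8, 9, 10, 6, 11, 12], [])], [2]),
  ([([6, 5, 4, 3, 2, 1, 6, 7, 8, 9, 10, 6, 11, 12, 6, 5, 4, 3, 2, 1, 6, 7, 8, 9, 10, 6, 11, 12, 6, 5, 4, 3, 2, 1, 6, 7, 8, 9, 10, 6, 11, 12, 6, 5, 4, 3, 2, 1, 6, 7, 8, 9, 10, 6, 11, 12, 6, 5, 4, 3, 2, 1, 6, 7, 8, 9, 10, 6, 11, 12, 6, 5, 4, 3, 2, 1, 6, 7, 8, 9, 10, 6, 11, 12, 6, 5, 4, 3, 2, 1, 6, 7, 8, 9, 10, 6, 11, 12, 6, 5, 4, 3, 2, 1, 6, 7, 8, 9, 10, 6, 11, 12, 6, 5, 4, 3, 2, 1, 6, 7, 8, 9, 10, 6, 11, 12, 6, 5, 4, 3, 2, 1, 6, 7, 8, 9, 10, 6, 11, 12, 6, 5, 4, 3, 2, 1, 6, 7, 8, 9, 10, 6, 11, 12, 6, 5, 4, 3, 2, 1, 6, 7, 8, 9, 10, 6, 11, 12, 6, 5, 4, 3, 2, 1, 6, 7, 8, 9, 10, 6, 11, 12, 6, 5, 4, 3, 2, 1, 6, 7, 8, 9, 10, 6, 11, 12, 6, 5, 4, 3, 2, 1, 6, 7, 8, 9, 10, 6, 11, 12, 6, 5, 4, 3, 2, 1, 6, 7, 8, 9,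 10, 6, 11, 12, 6, 5, 4, 3, 2, 1, 6, 7, 8, 9, 10, 6, 11, 12], [])], [3]),
  ([([6, 5, 4, 3, 2, 1, 6, 7, 8, 9, 10, 6, 11, 12, 6, 5, 4, 3, 2, 1, 6, 7, 8, 9, 10, 6, 11, 12, 6, 5, 4, 3, 2, 1, 6, 7, 8, 9, 10, 6, 11, 12, 6, 5, 4, 3, 2, 1, 6, 7, 8, 9, 10, 6, 11, 12, 6, 5, 4, 3, 2, 1, 6, 7, 8, 9, 10, 6, 11, 12, 6, 5, 4, 3, 2, 1, 6, 7, 8, 9, 10, 6, 11, 12, 6, 5, 4, 3, 2, 1, 6, 7, 8, 9, 10, 6, 11, 12, 6, 5, 4, 3, 2, 1, 6, 7, 8, 9, 10, 6, 11, 12, 6, 5, 4, 3, 2, 1, 6, 7, 8, 9, 10, 6, 11, 12, 6, 5, 4, 3, 2, 1, 6, 7, 8, 9, 10, 6, 11, 12, 6, 5, 4, 3, 2, 1, 6, 7, 8, 9, 10, 6, 11, 12, 6, 5, 4, 3, 2, 1, 6, 7, 8, 9, 10, 6, 11, 12, 6, 5, 4, 3, 2, 1, 6, 7, 8, 9, 10, 6, 11, 12, 6, 5, 4, 3, 2, 1, 6, 7, 8, 9, 10, 6, 11, 12, 6, 5, 4, 3, 2, 1, 6, 7, 8, 9, 10, 6, 11, 12, 6, 5, 4, 3, 2, 1, 6, 7, 8, 9, 10, 6, 11, 12, 6, 5, 4, 3, 2, 1, 6,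 7, 8, 9, 10, 6, 11, 12], [])], [4]),
  ([([6, 5, 4, 3, 2, 1, 6, 7, 8, 9, 10, 6, 11, 12, 6, 5, 4, 3, 2, 1, 6, 7, 8, 9, 10, 6, 11, 12, 6, 5, 4, 3, 2, 1, 6, 7, 8, 9, 10, 6, 11, 12, 6, 5, 4, 3, 2, 1, 6, 7, 8, 9, 10, 6, 11, 12, 6, 5, 4, 3, 2, 1, 6, 7, 8, 9, 10, 6, 11, 12, 6, 5, 4, 3, 2, 1, 6, 7, 8, 9, 10, 6, 11, 12, 6, 5, 4, 3, 2, 1, 6, 7, 8, 9, 10, 6, 11, 12, 6, 5, 4, 3, 2, 1, 6, 7, 8, 9, 10, 6, 11, 12, 6, 5, 4, 3, 2, 1, 6, 7, 8, 9, 10, 6, 11, 12, 6, 5, 4, 3, 2, 1, 6, 7, 8, 9, 10, 6, 11, 12, 6, 5, 4, 3, 2, 1, 6, 7, 8, 9, 10, 6, 11, 12, 6, 5, 4, 3, 2, 1, 6, 7, 8, 9, 10, 6, 11, 12, 6, 5, 4, 3, 2, 1, 6, 7, 8, 9, 10, 6, 11, 12, 6, 5, 4, 3, 2, 1, 6, 7, 8, 9, 10, 6, 11, 12, 6, 5, 4, 3, 2, 1, 6, 7, 8, 9, 10, 6, 11, 12, 6, 5, 4, 3, 2, 1, 6, 7, 8, 9, 10, 6, 11, 12, 6, 5, 4, 3, 2, 1, 6, 7, 8, 9, 10, 6, 11, 12], [])], [5]),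
  ([([6, 5, 4, 3, 2, 1, 6, 7, 8, 9, 10, 6, 11, 12, 6, 5, 4, 3, 2, 1, 6, 7, 8, 9, 10, 6, 11, 12, 6, 5, 4, 3, 2, 1, 6, 7, 8, 9, 10, 6, 11, 12, 6, 5, 4, 3, 2, 1, 6, 7, 8, 9, 10, 6, 11, 12, 6, 5, 4, 3, 2, 1, 6, 7, 8, 9, 10, 6, 11, 12, 6, 5, 4, 3, 2, 1, 6, 7, 8, 9, 10, 6, 11, 12, 6, 5, 4, 3, 2, 1, 6, 7, 8, 9, 10, 6, 11, 12, 6, 5, 4, 3, 2, 1, 6, 7, 8, 9, 10, 6, 11, 12, 6, 5, 4, 3, 2, 1, 6, 7, 8, 9, 10, 6, 11, 12, 6, 5, 4, 3, 2, 1, 6, 7, 8, 9, 10, 6, 11, 12, 6, 5, 4, 3, 2, 1, 6, 7, 8, 9, 10, 6, 11, 12, 6, 5, 4, 3, 2, 1, 6, 7, 8, 9, 10, 6, 11, 12, 6, 5, 4, 3, 2, 1, 6, 7, 8, 9, 10, 6, 11, 12, 6, 5, 4, 3, 2, 1, 6, 7, 8, 9, 10, 6, 11, 12, 6, 5, 4, 3, 2, 1, 6, 7, 8, 9, 10, 6, 11, 12, 6, 5, 4, 3, 2, 1, 6, 7, 8, 9, 10, 6, 11, 12, 6, 5, 4, 3, 2, 1, 6, 7, 8, 9, 10, 6, 11, 12], [])], [6]),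
  ([([6, 5, 4, 3, 2, 1, 6, 7, 8, 9, 10, 6, 11, 12, 6, 5, 4, 3, 2, 1, 6, 7, 8, 9, 10, 6, 11, 12, 6, 5, 4, 3, 2, 1, 6, 7, 8, 9, 10, 6, 11, 12, 6, 5, 4, 3, 2, 1, 6, 7, 8, 9, 10, 6, 11, 12, 6, 5, 4, 3, 2, 1, 6, 7, 8, 9, 10, 6, 11, 12, 6, 5, 4, 3, 2, 1, 6, 7, 8, 9, 10, 6, 11, 12, 6, 5, 4, 3, 2, 1, 6, 7, 8, 9, 10, 6, 11, 12, 6, 5, 4, 3, 2, 1, 6, 7, 8, 9, 10, 6, 11, 12, 6, 5, 4, 3, 2, 1, 6, 7, 8, 9, 10, 6, 11, 12, 6, 5, 4, 3, 2, 1, 6, 7, 8, 9, 10, 6, 11, 12, 6, 5, 4, 3, 2, 1, 6, 7, 8, 9, 10, 6, 11, 12, 6, 5, 4, 3, 2, 1, 6, 7, 8, 9, 10, 6, 11, 12, 6, 5, 4, 3, 2, 1, 6, 7, 8, 9, 10, 6, 11, 12, 6, 5, 4, 3, 2, 1, 6, 7, 8, 9, 10, 6, 11, 12, 6, 5, 4, 3, 2, 1, 6, 7, 8, 9, 10, 6, 11, 12, 6, 5, 4, 3, 2, 1, 6, 7, 8, 9, 10, 6, 11, 12, 6, 5, 4, 3, 2, 1, 6, 7, 8, 9, 10, 6, 11, 12], [])], [7]),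
  ([([6, 5, 4, 3, 2, 1, 6, 7, 8, 9, 10, 6, 11, 12, 6, 5, 4, 3, 2, 1, 6, 7, 8, 9, 10, 6, 11, 12, 6, 5, 4, 3, 2, 1, 6, 7, 8, 9, 10, 6, 11, 12, 6, 5, 4, 3, 2, 1, 6, 7, 8, 9, 10, 6, 11, 12, 6, 5, 4, 3, 2, 1, 6, 7, 8, 9, 10, 6, 11, 12, 6, 5, 4, 3, 2, 1, 6, 7, 8, 9, 10, 6, 11, 12, 6, 5, 4, 3, 2, 1, 6, 7, 8, 9, 10, 6, 11, 12, 6, 5, 4, 3, 2, 1, 6, 7, 8, 9, 10, 6, 11, 12, 6, 5, 4, 3, 2, 1, 6, 7, 8, 9, 10, 6, 11, 12, 6, 5, 4, 3, 2, 1, 6, 7, 8, 9, 10, 6, 11, 12, 6, 5, 4, 3, 2, 1, 6, 7, 8, 9, 10, 6, 11, 12, 6, 5, 4, 3, 2, 1, 6, 7, 8, 9, 10, 6, 11, 12, 6, 5, 4, 3, 2, 1, 6, 7, 8, 9, 10, 6, 11, 12, 6, 5, 4, 3, 2, 1, 6, 7, 8, 9, 10, 6, 11, 12, 6, 5, 4, 3, 2, 1, 6, 7, 8, 9, 10, 6, 11, 12, 6, 5, 4, 3, 2, 1, 6, 7, 8, 9, 10, 6, 11, 12, 6, 5, 4, 3, 2, 1, 6, 7, 8, 9, 10, 6, 11, 12], [])], [8]),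
  ([([6, 5, 4, 3, 2, 1, 6, 7, 8, 9, 10, 6, 11, 12, 6, 5, 4, 3, 2, 1, 6, 7, 8, 9, 10, 6, 11, 12, 6, 5, 4, 3, 2, 1, 6, 7, 8, 9, 10, 6, 11, 12, 6, 5, 4, 3, 2, 1, 6, 7, 8, 9, 10, 6, 11, 12, 6, 5, 4, 3, 2, 1, 6, 7, 8, 9, 10, 6, 11, 12, 6, 5, 4, 3, 2, 1, 6, 7, 8, 9, 10, 6, 11, 12, 6, 5, 4, 3, 2, 1, 6, 7, 8, 9, 10, 6, 11, 12, 6, 5, 4, 3, 2, 1, 6, 7, 8, 9, 10, 6, 11, 12, 6, 5, 4, 3, 2, 1, 6, 7, 8, 9, 10, 6, 11, 12, 6, 5, 4, 3, 2, 1, 6, 7, 8, 9, 10, 6, 11, 12, 6, 5, 4, 3, 2, 1, 6, 7, 8, 9, 10, 6, 11, 12, 6, 5, 4, 3, 2, 1, 6, 7, 8, 9, 10, 6, 11, 12, 6, 5, 4, 3, 2, 1, 6, 7, 8, 9, 10, 6, 11, 12, 6, 5, 4, 3, 2, 1, 6, 7, 8, 9, 10, 6, 11, 12, 6, 5, 4, 3, 2, 1, 6, 7, 8, 9, 10, 6, 11, 12, 6, 5, 4, 3, 2, 1, 6, 7, 8, 9, 10, 6, 11, 12, 6, 5, 4, 3, 2, 1, 6, 7, 8, 9, 10, 6, 11, 12], [])], [9]),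
  ([([6, 5, 4, 3, 2, 1, 6, 7, 8, 9, 10, 6, 11, 12, 6, 5, 4, 3, 2, 1, 6, 7, 8, 9, 10, 6, 11, 12, 6, 5, 4, 3, 2, 1, 6, 7, 8, 9, 10, 6, 11, 12, 6, 5, 4, 3, 2, 1, 6, 7, 8, 9, 10, 6, 11, 12, 6, 5, 4, 3, 2, 1, 6, 7, 8, 9, 10, 6, 11, 12, 6, 5, 4, 3, 2, 1, 6, 7, 8, 9, 10, 6, 11, 12, 6, 5, 4, 3, 2, 1, 6, 7, 8, 9, 10, 6, 11, 12, 6, 5, 4, 3, 2, 1, 6, 7, 8, 9, 10, 6, 11, 12, 6, 5, 4, 3, 2, 1, 6, 7, 8, 9, 10, 6, 11, 12, 6, 5, 4, 3, 2, 1, 6, 7, 8, 9, 10, 6, 11, 12, 6, 5, 4, 3, 2, 1, 6, 7, 8, 9, 10, 6, 11, 12, 6, 5, 4, 3, 2, 1, 6, 7, 8, 9, 10, 6, 11, 12, 6, 5, 4, 3, 2, 1, 6, 7, 8, 9, 10, 6, 11, 12, 6, 5, 4, 3, 2, 1, 6, 7, 8, 9, 10, 6, 11, 12, 6, 5, 4, 3, 2, 1, 6, 7, 8, 9, 10, 6, 11, 12, 6, 5, 4, 3, 2, 1, 6, 7, 8, 9, 10, 6, 11, 12, 6, 5, 4, 3, 2, 1, 6, 7, 8, 9, 10, 6, 11, 12], [])], [10]),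
  ([([6, 5, 4, 3, 2, 1, 6, 7, 8, 9, 10, 6, 11, 12, 6, 5, 4, 3, 2, 1, 6, 7, 8, 9, 10, 6, 11, 12, 6, 5, 4, 3, 2, 1, 6, 7, 8, 9, 10, 6, 11, 12, 6, 5, 4, 3, 2, 1, 6, 7, 8, 9, 10, 6, 11, 12, 6, 5, 4, 3, 2, 1, 6, 7, 8, 9, 10, 6, 11, 12, 6, 5, 4, 3, 2, 1, 6, 7, 8, 9, 10, 6, 11, 12, 6, 5, 4, 3, 2, 1, 6, 7, 8, 9, 10, 6, 11, 12, 6, 5, 4, 3, 2, 1, 6, 7, 8, 9, 10, 6, 11, 12, 6, 5, 4, 3, 2, 1, 6, 7, 8, 9, 10, 6, 11, 12, 6, 5, 4, 3, 2, 1, 6, 7, 8, 9, 10, 6, 11, 12, 6, 5, 4, 3, 2, 1, 6, 7, 8, 9, 10, 6, 11, 12, 6, 5, 4, 3, 2, 1, 6, 7, 8, 9, 10, 6, 11, 12, 6, 5, 4, 3, 2, 1, 6, 7, 8, 9, 10, 6, 11, 12, 6, 5, 4, 3, 2, 1, 6, 7, 8, 9, 10, 6, 11, 12, 6, 5, 4, 3, 2, 1, 6, 7, 8, 9, 10, 6, 11, 12, 6, 5, 4, 3, 2, 1, 6, 7, 8, 9, 10, 6, 11, 12, 6, 5, 4, 3, 2, 1, 6, 7, 8, 9, 10, 6, 11, 12], [])], [11]),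
  ([([6, 5, 4, 3, 2, 1, 6, 7, 8, 9, 10, 6, 11, 12, 6, 5, 4, 3, 2, 1, 6, 7, 8, 9, 10, 6, 11, 12, 6, 5, 4, 3, 2, 1, 6, 7, 8, 9, 10, 6, 11, 12, 6, 5, 4, 3, 2, 1, 6, 7, 8, 9, 10, 6, 11, 12, 6, 5, 4, 3, 2, 1, 6, 7, 8, 9, 10, 6, 11, 12, 6, 5, 4, 3, 2, 1, 6, 7, 8, 9, 10, 6, 11, 12, 6, 5, 4, 3, 2, 1, 6, 7, 8, 9, 10, 6, 11, 12, 6, 5, 4, 3, 2, 1, 6, 7, 8, 9, 10, 6, 11, 12, 6, 5, 4, 3, 2, 1, 6, 7, 8, 9, 10, 6, 11, 12, 6, 5, 4, 3, 2, 1, 6, 7, 8, 9, 10, 6, 11, 12, 6, 5, 4, 3, 2, 1, 6, 7, 8, 9, 10, 6, 11, 12, 6, 5, 4, 3, 2, 1, 6, 7, 8, 9, 10, 6, 11, 12, 6, 5, 4, 3, 2, 1, 6, 7, 8, 9, 10, 6, 11, 12, 6, 5, 4, 3, 2, 1, 6, 7, 8, 9, 10, 6, 11, 12, 6, 5, 4, 3, 2, 1, 6, 7, 8, 9, 10, 6, 11, 12, 6, 5, 4, 3, 2, 1, 6, 7, 8, 9, 10, 6, 11, 12, 6, 5, 4, 3, 2, 1, 6, 7, 8, 9, 10, 6, 11, 12], [])], [12]),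
  ([([6, 5, 4, 3, 2, 1, 6, 7, 8, 9, 10, 6, 11, 12, 6, 5, 4, 3, 2, 1, 6, 7, 8, 9, 10, 6, 11, 12, 6, 5, 4, 3, 2, 1, 6, 7, 8, 9, 10, 6, 11, 12, 6, 5, 4, 3, 2, 1, 6, 7, 8, 9, 10, 6, 11, 12, 6, 5, 4, 3, 2, 1, 6, 7, 8, 9, 10, 6, 11, 12, 6, 5, 4, 3, 2, 1, 6, 7, 8, 9, 10, 6, 11, 12, 6, 5, 4, 3, 2, 1, 6, 7, 8, 9, 10, 6, 11, 12, 6, 5, 4, 3, 2, 1, 6, 7, 8, 9, 10, 6, 11, 12, 6, 5, 4, 3, 2, 1, 6, 7, 8, 9, 10, 6, 11, 12, 6, 5, 4, 3, 2, 1, 6, 7, 8, 9, 10, 6, 11, 12, 6, 5, 4, 3, 2, 1, 6, 7, 8, 9, 10, 6, 11, 12, 6, 5, 4, 3, 2, 1, 6, 7, 8, 9, 10, 6, 11, 12, 6, 5, 4, 3, 2, 1, 6, 7, 8, 9, 10, 6, 11, 12, 6, 5, 4, 3, 2, 1, 6, 7, 8, 9, 10, 6, 11, 12, 6, 5, 4, 3, 2, 1, 6, 7, 8, 9, 10, 6, 11, 12, 6, 5, 4, 3, 2, 1, 6, 7, 8, 9, 10, 6, 11, 12, 6, 5, 4, 3, 2, 1, 6, 7, 8, 9, 10, 6, 11, 12], [])], [13]),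
  ([([6, 5, 4, 3, 2, 1, 6, 7, 8, 9, 10, 6, 11, 12, 6, 5, 4, 3, 2, 1, 6, 7, 8, 9, 10, 6, 11, 12, 6, 5, 4, 3, 2, 1, 6, 7, 8, 9, 10, 6, 11, 12, 6, 5, 4, 3, 2, 1, 6, 7, 8, 9, 10, 6, 11, 12, 6, 5, 4, 3, 2, 1, 6, 7, 8, 9, 10, 6, 11, 12, 6, 5, 4, 3, 2, 1, 6, 7, 8, 9, 10, 6, 11, 12, 6, 5, 4, 3, 2, 1, 6, 7, 8, 9, 10, 6, 11, 12, 6, 5, 4, 3, 2, 1, 6, 7, 8, 9, 10, 6, 11, 12, 6, 5, 4, 3, 2, 1, 6, 7, 8, 9, 10, 6, 11, 12, 6, 5, 4, 3, 2, 1, 6, 7, 8, 9, 10, 6, 11, 12, 6, 5, 4, 3, 2, 1, 6, 7, 8, 9, 10, 6, 11, 12, 6, 5, 4, 3, 2, 1, 6, 7, 8, 9, 10, 6, 11, 12, 6, 5, 4, 3, 2, 1, 6, 7, 8, 9, 10, 6, 11, 12, 6, 5, 4, 3, 2, 1, 6, 7, 8, 9, 10, 6, 11, 12, 6, 5, 4, 3, 2, 1, 6, 7, 8, 9, 10, 6, 11, 12, 6, 5, 4, 3, 2, 1, 6, 7, 8, 9, 10, 6, 11, 12, 6, 5, 4, 3, 2, 1, 6, 7, 8, 9, 10, 6, 11, 12], [])], [14]),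
  ([([6, 5, 4, 3, 2, 1, 6, 7, 8, 9, 10, 6, 11, 12, 6, 5, 4, 3, 2, 1, 6, 7, 8, 9, 10, 6, 11, 12, 6, 5, 4, 3, 2, 1, 6, 7, 8, 9, 10, 6, 11, 12, 6, 5, 4, 3, 2, 1, 6, 7, 8, 9, 10, 6, 11, 12, 6, 5, 4, 3, 2, 1, 6, 7, 8, 9, 10, 6, 11, 12, 6, 5, 4, 3, 2, 1, 6, 7, 8, 9, 10, 6, 11, 12, 6, 5, 4, 3, 2, 1, 6, 7, 8, 9, 10, 6, 11, 12, 6, 5, 4, 3, 2, 1, 6, 7, 8, 9, 10, 6, 11, 12, 6, 5, 4, 3, 2, 1, 6, 7, 8, 9, 10, 6, 11, 12, 6, 5, 4, 3, 2, 1, 6, 7, 8, 9, 10, 6, 11, 12, 6, 5, 4, 3, 2, 1, 6, 7, 8, 9, 10, 6, 11, 12, 6, 5, 4, 3, 2, 1, 6, 7, 8, 9, 10, 6, 11, 12, 6, 5, 4, 3, 2, 1, 6, 7, 8, 9, 10, 6, 11, 12, 6, 5, 4, 3, 2, 1, 6, 7, 8, 9, 10, 6, 11, 12, 6, 5, 4, 3, 2, 1, 6, 7, 8, 9, 10, 6, 11, 12, 6, 5, 4, 3, 2, 1, 6, 7, 8, 9, 10, 6, 11, 12, 6, 5, 4, 3, 2, 1, 6, 7, 8, 9, 10, 6, 11, 12], [])], [15]),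
  ([([6, 5, 4, 3, 2, 1, 6, 7, 8, 9, 10, 6, 11, 12, 6, 5, 4, 3, 2, 1, 6, 7, 8, 9, 10, 6, 11, 12, 6, 5, 4, 3, 2, 1, 6, 7, 8, 9, 10, 6, 11, 12, 6, 5, 4, 3, 2, 1, 6, 7, 8, 9, 10, 6, 11, 12, 6, 5, 4, 3, 2, 1, 6, 7, 8, 9, 10, 6, 11, 12, 6, 5, 4, 3, 2, 1, 6, 7, 8, 9, 10, 6, 11, 12, 6, 5, 4, 3, 2, 1, 6, 7, 8, 9, 10, 6, 11, 12, 6, 5, 4, 3, 2, 1, 6, 7, 8, 9, 10, 6, 11, 12, 6, 5, 4, 3, 2, 1, 6, 7, 8, 9, 10, 6, 11, 12, 6, 5, 4, 3, 2, 1, 6, 7, 8, 9, 10, 6, 11, 12, 6, 5, 4, 3, 2, 1, 6, 7, 8, 9, 10, 6, 11, 12, 6, 5, 4, 3, 2, 1, 6, 7, 8, 9, 10, 6, 11, 12, 6, 5, 4, 3, 2, 1, 6, 7, 8, 9, 10, 6, 11, 12, 6, 5, 4, 3, 2, 1, 6, 7, 8, 9, 10, 6, 11, 12, 6, 5, 4, 3, 2, 1, 6, 7, 8, 9, 10, 6, 11, 12, 6, 5, 4, 3, 2, 1, 6, 7, 8, 9, 10, 6, 11, 12, 6, 5, 4, 3, 2, 1, 6, 7, 8, 9, 10, 6, 11, 12], [])], [16]),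
  ([([6, 5, 4, 3, 2, 1, 6, 7, 8, 9, 10, 6, 11, 12, 6, 5, 4, 3, 2, 1, 6, 7, 8, 9, 10, 6, 11, 12, 6, 5, 4, 3, 2, 1, 6, 7, 8, 9, 10, 6, 11, 12, 6, 5, 4, 3, 2, 1, 6, 7, 8, 9, 10, 6, 11, 12, 6, 5, 4, 3, 2, 1, 6, 7, 8, 9, 10, 6, 11, 12, 6, 5, 4, 3, 2, 1, 6, 7, 8, 9, 10, 6, 11, 12, 6, 5, 4, 3, 2, 1, 6, 7, 8, 9, 10, 6, 11, 12, 6, 5, 4, 3, 2, 1, 6, 7, 8, 9, 10, 6, 11, 12, 6, 5, 4, 3, 2, 1, 6, 7, 8, 9, 10, 6, 11, 12, 6, 5, 4, 3, 2, 1, 6, 7, 8, 9, 10, 6, 11, 12, 6, 5, 4, 3, 2, 1, 6, 7, 8, 9, 10, 6, 11, 12, 6, 5, 4, 3, 2, 1, 6, 7, 8, 9, 10, 6, 11, 12, 6, 5, 4, 3, 2, 1, 6, 7, 8, 9, 10, 6, 11, 12, 6, 5, 4, 3, 2, 1, 6, 7, 8, 9, 10, 6, 11, 12, 6, 5, 4, 3, 2, 1, 6, 7, 8, 9, 10, 6, 11, 12, 6, 5, 4, 3, 2, 1, 6, 7, 8, 9, 10, 6, 11, 12, 6, 5, 4, 3, 2, 1, 6, 7, 8, 9, 10, 6, 11, 12], [])], [17]),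
  ([([6, 5, 4, 3, 2, 1, 6, 7, 8, 9, 10, 6, 11, 12, 6, 5, 4, 3, 2, 1, 6, 7, 8, 9, 10, 6, 11, 12, 6, 5, 4, 3, 2, 1, 6, 7, 8, 9, 10, 6, 11, 12, 6, 5, 4, 3, 2, 1, 6, 7, 8, 9, 10, 6, 11, 12, 6, 5, 4, 3, 2, 1, 6, 7, 8, 9, 10, 6, 11, 12, 6, 5, 4, 3, 2, 1, 6, 7, 8, 9, 10, 6, 11, 12, 6, 5, 4, 3, 2, 1, 6, 7, 8, 9, 10, 6, 11, 12, 6, 5, 4, 3, 2, 1, 6, 7, 8, 9, 10, 6, 11, 12, 6, 5, 4, 3, 2, 1, 6, 7, 8, 9, 10, 6, 11, 12, 6, 5, 4, 3, 2, 1, 6, 7, 8, 9, 10, 6, 11, 12, 6, 5, 4, 3, 2, 1, 6, 7, 8, 9, 10, 6, 11, 12, 6, 5, 4, 3, 2, 1, 6, 7, 8, 9, 10, 6, 11, 12, 6, 5, 4, 3, 2, 1, 6, 7, 8, 9, 10, 6, 11, 12, 6, 5, 4, 3, 2, 1, 6, 7, 8, 9, 10, 6, 11, 12, 6, 5, 4, 3, 2, 1, 6, 7, 8, 9, 10, 6, 11, 12, 6, 5, 4, 3, 2, 1, 6, 7, 8, 9, 10, 6, 11, 12, 6, 5, 4, 3, 2, 1, 6, 7, 8, 9, 10, 6, 11, 12], [])], [18])]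
theorem idT0 : eqChk (ntOf ntl) 19 (idTasks.getD 0 ([], [])) = true := by decide +kernel
theorem idT1 : eqChk (ntOf ntl) 19 (idTasks.getD 1 ([], [])) = true := by decide +kernel
theorem idT2 : eqChk (ntOf ntl) 19 (idTasks.getD 2 ([], [])) = true := by decide +kernel
theorem idT3 : eqChk (ntOf ntl) 19 (idTasks.getD 3 ([], [])) = true := by decide +kernel
theorem idT4 : eqChk (ntOf ntl) 19 (idTasks.getD 4 ([], [])) = true := by decide +kernel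
theorem idT5 : eqChk (ntOf ntl) 19 (idTasks.getD 5 ([], [])) = true := by decide +kernel
theorem idT6 : eqChk (ntOf ntl) 19 (idTasks.getD 6 ([], [])) = true := by decide +kernel
theorem idT7 : eqChk (ntOf ntl) 19 (idTasks.getD 7 ([], [])) = true := by decide +kernel
theorem idT8 : eqChk (ntOf ntl) 19 (idTasks.getD 8 ([], [])) = true := by decide +kernel
theorem idT9 : eqChk (ntOf ntl) 19 (idTasks.getD 9 ([], [])) = true := by decide +kernel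
theorem idT10 : eqChk (ntOf ntl) 19 (idTasks.getD 10 ([], [])) = true := by decide +kernel
theorem idT11 : eqChk (ntOf ntl) 19 (idTasks.getD 11 ([], [])) = true := by decide +kernel
theorem idT12 : eqChk (ntOf ntl) 19 (idTasks.getD 12 ([], [])) = true := by decide +kernel
theorem idT13 : eqChk (ntOf ntl) 19 (idTasks.getD 13 ([], [])) = true := by decide +kernel
theorem idT14 : eqChk (ntOf ntl) 19 (idTasks.getD 14 ([], [])) = true := by decide +kernel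
theorem idT15 : eqChk (ntOf ntl) 19 (idTasks.getD 15 ([], [])) = true := by decide +kernel
theorem idT16 : eqChk (ntOf ntl) 19 (idTasks.getD 16 ([], [])) = true := by decide +kernel
theorem idT17 : eqChk (ntOf ntl) 19 (idTasks.getD 17 ([], [])) = true := by decide +kernel
theorem idT18 : eqChk (ntOf ntl) 19 (idTasks.getD 18 ([], [])) = true := by decide +kernel
theorem idT19 : eqChk (ntOf ntl) 19 (idTasks.getD 19 ([], [])) = true := by decide +kernel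
theorem idT20 : eqChk (ntOf ntl) 19 (idTasks.getD 20 ([], [])) = true := by decide +kernel
theorem idT21 : eqChk (ntOf ntl) 19 (idTasks.getD 21 ([], [])) = true := by decide +kernel
theorem idT22 : eqChk (ntOf ntl) 19 (idTasks.getD 22 ([], [])) = true := by decide +kernel
theorem idT23 : eqChk (ntOf ntl) 19 (idTasks.getD 23 ([], [])) = true := by decide +kernel
theorem idT24 : eqChk (ntOf ntl) 19 (idTasks.getD 24 ([], [])) = true := by decide +kernel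
theorem idT25 : eqChk (ntOf ntl) 19 (idTasks.getD 25 ([], [])) = true := by decide +kernel
theorem idT26 : eqChk (ntOf ntl) 19 (idTasks.getD 26 ([], [])) = true := by decide +kernel
theorem idT27 : eqChk (ntOf ntl) 19 (idTasks.getD 27 ([], [])) = true := by decide +kernel
theorem idT28 : eqChk (ntOf ntl) 19 (idTasks.getD 28 ([], [])) = true := by decide +kernel
theorem idT29 : eqChk (ntOf ntl) 19 (idTasks.getD 29 ([], [])) = true := by decide +kernel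
theorem idT30 : eqChk (ntOf ntl) 19 (idTasks.getD 30 ([], [])) = true := by decide +kernel
theorem idT31 : eqChk (ntOf ntl) 19 (idTasks.getD 31 ([], [])) = true := by decide +kernel
theorem idT32 : eqChk (ntOf ntl) 19 (idTasks.getD 32 ([], [])) = true := by decide +kernel
theorem idT33 : eqChk (ntOf ntl) 19 (idTasks.getD 33 ([], [])) = true := by decide +kernel
theorem idT34 : eqChk (ntOf ntl) 19 (idTasks.getD 34 ([], [])) = true := by decide +kernel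
theorem idT35 : eqChk (ntOf ntl) 19 (idTasks.getD 35 ([], [])) = true := by decide +kernel
theorem idT36 : eqChk (ntOf ntl) 19 (idTasks.getD 36 ([], [])) = true := by decide +kernel
theorem idT37 : eqChk (ntOf ntl) 19 (idTasks.getD 37 ([], [])) = true := by decide +kernel
theorem idT38 : eqChk (ntOf ntl) 19 (idTasks.getD 38 ([], [])) = true := by decide +kernel
theorem idT39 : eqChk (ntOf ntl) 19 (idTasks.getD 39 ([], [])) = true := by decide +kernel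
theorem idT40 : eqChk (ntOf ntl) 19 (idTasks.getD 40 ([], [])) = true := by decide +kernel
theorem idT41 : eqChk (ntOf ntl) 19 (idTasks.getD 41 ([], [])) = true := by decide +kernel
theorem idT42 : eqChk (ntOf ntl) 19 (idTasks.getD 42 ([], [])) = true := by decide +kernel
theorem idT43 : eqChk (ntOf ntl) 19 (idTasks.getD 43 ([], [])) = true := by decide +kernel
theorem idT44 : eqChk (ntOf ntl) 19 (idTasks.getD 44 ([], [])) = true := by decide +kernel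
theorem idT45 : eqChk (ntOf ntl) 19 (idTasks.getD 45 ([], [])) = true := by decide +kernel
theorem idT46 : eqChk (ntOf ntl) 19 (idTasks.getD 46 ([], [])) = true := by decide +kernel
theorem idT47 : eqChk (ntOf ntl) 19 (idTasks.getD 47 ([], [])) = true := by decide +kernel
theorem idT48 : eqChk (ntOf ntl) 19 (idTasks.getD 48 ([], [])) = true := by decide +kernel
theorem idT49 : eqChk (ntOf ntl) 19 (idTasks.getD 49 ([], [])) = true := by decide +kernel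
theorem idT50 : eqChk (ntOf ntl) 19 (idTasks.getD 50 ([], [])) = true := by decide +kernel
theorem idT51 : eqChk (ntOf ntl) 19 (idTasks.getD 51 ([], [])) = true := by decide +kernel
theorem idT52 : eqChk (ntOf ntl) 19 (idTasks.getD 52 ([], [])) = true := by decide +kernel
theorem idT53 : eqChk (ntOf ntl) 19 (idTasks.getD 53 ([], [])) = true := by decide +kernel
theorem idT54 : eqChk (ntOf ntl) 19 (idTasks.getD 54 ([], [])) = true := by decide +kernel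
theorem idT55 : eqChk (ntOf ntl) 19 (idTasks.getD 55 ([], [])) = true := by decide +kernel
theorem idT56 : eqChk (ntOf ntl) 19 (idTasks.getD 56 ([], [])) = true := by decide +kernel
theorem idT57 : eqChk (ntOf ntl) 19 (idTasks.getD 57 ([], [])) = true := by decide +kernel
theorem idT58 : eqChk (ntOf ntl) 19 (idTasks.getD 58 ([], [])) = true := by decide +kernel
theorem idT59 : eqChk (ntOf ntl) 19 (idTasks.getD 59 ([], [])) = true := by decide +kernel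
theorem idT60 : eqChk (ntOf ntl) 19 (idTasks.getD 60 ([], [])) = true := by decide +kernel
theorem idT61 : eqChk (ntOf ntl) 19 (idTasks.getD 61 ([], [])) = true := by decide +kernel
theorem idT62 : eqChk (ntOf ntl) 19 (idTasks.getD 62 ([], [])) = true := by decide +kernel
theorem idT63 : eqChk (ntOf ntl) 19 (idTasks.getD 63 ([], [])) = true := by decide +kernel
theorem idT64 : eqChk (ntOf ntl) 19 (idTasks.getD 64 ([], [])) = true := by decide +kernel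
theorem idT65 : eqChk (ntOf ntl) 19 (idTasks.getD 65 ([], [])) = true := by decide +kernel
theorem idT66 : eqChk (ntOf ntl) 19 (idTasks.getD 66 ([], [])) = true := by decide +kernel
theorem idT67 : eqChk (ntOf ntl) 19 (idTasks.getD 67 ([], [])) = true := by decide +kernel
theorem idT68 : eqChk (ntOf ntl) 19 (idTasks.getD 68 ([], [])) = true := by decide +kernel
theorem idT69 : eqChk (ntOf ntl) 19 (idTasks.getD 69 ([], [])) = true := by decide +kernel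
theorem idT70 : eqChk (ntOf ntl) 19 (idTasks.getD 70 ([], [])) = true := by decide +kernel
theorem idT71 : eqChk (ntOf ntl) 19 (idTasks.getD 71 ([], [])) = true := by decide +kernel
theorem idT72 : eqChk (ntOf ntl) 19 (idTasks.getD 72 ([], [])) = true := by decide +kernel
theorem idT73 : eqChk (ntOf ntl) 19 (idTasks.getD 73 ([], [])) = true := by decide +kernel
theorem idT74 : eqChk (ntOf ntl) 19 (idTasks.getD 74 ([], [])) = true := by decide +kernel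
theorem idT75 : eqChk (ntOf ntl) 19 (idTasks.getD 75 ([], [])) = true := by decide +kernel
theorem idT76 : eqChk (ntOf ntl) 19 (idTasks.getD 76 ([], [])) = true := by decide +kernel
theorem idT77 : eqChk (ntOf ntl) 19 (idTasks.getD 77 ([], [])) = true := by decide +kernel
theorem idT78 : eqChk (ntOf ntl) 19 (idTasks.getD 78 ([], [])) = true := by decide +kernel
theorem idT79 : eqChk (ntOf ntl) 19 (idTasks.getD 79 ([], [])) = true := by decide +kernel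
theorem idT80 : eqChk (ntOf ntl) 19 (idTasks.getD 80 ([], [])) = true := by decide +kernel
theorem idT81 : eqChk (ntOf ntl) 19 (idTasks.getD 81 ([], [])) = true := by decide +kernel
theorem idT82 : eqChk (ntOf ntl) 19 (idTasks.getD 82 ([], [])) = true := by decide +kernel
theorem idT83 : eqChk (ntOf ntl) 19 (idTasks.getD 83 ([], [])) = true := by decide +kernel
theorem idT84 : eqChk (ntOf ntl) 19 (idTasks.getD 84 ([], [])) = true := by decide +kernel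
theorem idT85 : eqChk (ntOf ntl) 19 (idTasks.getD 85 ([], [])) = true := by decide +kernel
theorem idT86 : eqChk (ntOf ntl) 19 (idTasks.getD 86 ([], [])) = true := by decide +kernel
theorem idT87 : eqChk (ntOf ntl) 19 (idTasks.getD 87 ([], [])) = true := by decide +kernel
theorem idT88 : eqChk (ntOf ntl) 19 (idTasks.getD 88 ([], [])) = true := by decide +kernel
theorem idT89 : eqChk (ntOf ntl) 19 (idTasks.getD 89 ([], [])) = true := by decide +kernel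
theorem idT90 : eqChk (ntOf ntl) 19 (idTasks.getD 90 ([], [])) = true := by decide +kernel
theorem idT91 : eqChk (ntOf ntl) 19 (idTasks.getD 91 ([], [])) = true := by decide +kernel
theorem idT92 : eqChk (ntOf ntl) 19 (idTasks.getD 92 ([], [])) = true := by decide +kernel
theorem idT93 : eqChk (ntOf ntl) 19 (idTasks.getD 93 ([], [])) = true := by decide +kernel
theorem idT94 : eqChk (ntOf ntl) 19 (idTasks.getD 94 ([], [])) = true := by decide +kernel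
theorem idT95 : eqChk (ntOf ntl) 19 (idTasks.getD 95 ([], [])) = true := by decide +kernel
theorem idT96 : eqChk (ntOf ntl) 19 (idTasks.getD 96 ([], [])) = true := by decide +kernel
theorem idT97 : eqChk (ntOf ntl) 19 (idTasks.getD 97 ([], [])) = true := by decide +kernel
theorem idT98 : eqChk (ntOf ntl) 19 (idTasks.getD 98 ([], [])) = true := by decide +kernel
theorem idT99 : eqChk (ntOf ntl) 19 (idTasks.getD 99 ([], [])) = true := by decide +kernel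
theorem idT100 : eqChk (ntOf ntl) 19 (idTasks.getD 100 ([], [])) = true := by decide +kernel
theorem idT101 : eqChk (ntOf ntl) 19 (idTasks.getD 101 ([], [])) = true := by decide +kernel
theorem idT102 : eqChk (ntOf ntl) 19 (idTasks.getD 102 ([], [])) = true := by decide +kernel
theorem idT103 : eqChk (ntOf ntl) 19 (idTasks.getD 103 ([], [])) = true := by decide +kernel
theorem idT104 : eqChk (ntOf ntl) 19 (idTasks.getD 104 ([], [])) = true := by decide +kernel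
theorem idT105 : eqChk (ntOf ntl) 19 (idTasks.getD 105 ([], [])) = true := by decide +kernel
theorem idT106 : eqChk (ntOf ntl) 19 (idTasks.getD 106 ([], [])) = true := by decide +kernel
theorem idT107 : eqChk (ntOf ntl) 19 (idTasks.getD 107 ([], [])) = true := by decide +kernel
theorem idT108 : eqChk (ntOf ntl) 19 (idTasks.getD 108 ([], [])) = true := by decide +kernel
theorem idT109 : eqChk (ntOf ntl) 19 (idTasks.getD 109 ([], [])) = true := by decide +kernel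
theorem idT110 : eqChk (ntOf ntl) 19 (idTasks.getD 110 ([], [])) = true := by decide +kernel
theorem idT111 : eqChk (ntOf ntl) 19 (idTasks.getD 111 ([], [])) = true := by decide +kernel
theorem idT112 : eqChk (ntOf ntl) 19 (idTasks.getD 112 ([], [])) = true := by decide +kernel
theorem idT113 : eqChk (ntOf ntl) 19 (idTasks.getD 113 ([], [])) = true := by decide +kernel
theorem idT114 : eqChk (ntOf ntl) 19 (idTasks.getD 114 ([], [])) = true := by decide +kernel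
theorem idT115 : eqChk (ntOf ntl) 19 (idTasks.getD 115 ([], [])) = true := by decide +kernel
theorem idT116 : eqChk (ntOf ntl) 19 (idTasks.getD 116 ([], [])) = true := by decide +kernel
theorem idT117 : eqChk (ntOf ntl) 19 (idTasks.getD 117 ([], [])) = true := by decide +kernel
theorem idT118 : eqChk (ntOf ntl) 19 (idTasks.getD 118 ([], [])) = true := by decide +kernel
theorem idT119 : eqChk (ntOf ntl) 19 (idTasks.getD 119 ([], [])) = true := by decide +kernel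
theorem idT120 : eqChk (ntOf ntl) 19 (idTasks.getD 120 ([], [])) = true := by decide +kernel
theorem idT121 : eqChk (ntOf ntl) 19 (idTasks.getD 121 ([], [])) = true := by decide +kernel
theorem idT122 : eqChk (ntOf ntl) 19 (idTasks.getD 122 ([], [])) = true := by decide +kernel
theorem idT123 : eqChk (ntOf ntl) 19 (idTasks.getD 123 ([], [])) = true := by decide +kernel
theorem idT124 : eqChk (ntOf ntl) 19 (idTasks.getD 124 ([], [])) = true := by decide +kernel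
theorem idT125 : eqChk (ntOf ntl) 19 (idTasks.getD 125 ([], [])) = true := by decide +kernel
theorem idT126 : eqChk (ntOf ntl) 19 (idTasks.getD 126 ([], [])) = true := by decide +kernel
theorem idT127 : eqChk (ntOf ntl) 19 (idTasks.getD 127 ([], [])) = true := by decide +kernel
theorem idT128 : eqChk (ntOf ntl) 19 (idTasks.getD 128 ([], [])) = true := by decide +kernel
theorem idT129 : eqChk (ntOf ntl) 19 (idTasks.getD 129 ([], [])) = true := by decide +kernel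
theorem idT130 : eqChk (ntOf ntl) 19 (idTasks.getD 130 ([], [])) = true := by decide +kernel
theorem idT131 : eqChk (ntOf ntl) 19 (idTasks.getD 131 ([], [])) = true := by decide +kernel
theorem idT132 : eqChk (ntOf ntl) 19 (idTasks.getD 132 ([], [])) = true := by decide +kernel
theorem idT133 : eqChk (ntOf ntl) 19 (idTasks.getD 133 ([], [])) = true := by decide +kernel
theorem idT134 : eqChk (ntOf ntl) 19 (idTasks.getD 134 ([], [])) = true := by decide +kernel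
theorem idT135 : eqChk (ntOf ntl) 19 (idTasks.getD 135 ([], [])) = true := by decide +kernel
theorem idT136 : eqChk (ntOf ntl) 19 (idTasks.getD 136 ([], [])) = true := by decide +kernel
theorem idT137 : eqChk (ntOf ntl) 19 (idTasks.getD 137 ([], [])) = true := by decide +kernel
theorem idT138 : eqChk (ntOf ntl) 19 (idTasks.getD 138 ([], [])) = true := by decide +kernel
theorem idT139 : eqChk (ntOf ntl) 19 (idTasks.getD 139 ([], [])) = true := by decide +kernel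
theorem idT140 : eqChk (ntOf ntl) 19 (idTasks.getD 140 ([], [])) = true := by decide +kernel
theorem idT141 : eqChk (ntOf ntl) 19 (idTasks.getD 141 ([], [])) = true := by decide +kernel
theorem idT142 : eqChk (ntOf ntl) 19 (idTasks.getD 142 ([], [])) = true := by decide +kernel
theorem idT143 : eqChk (ntOf ntl) 19 (idTasks.getD 143 ([], [])) = true := by decide +kernel
theorem idT144 : eqChk (ntOf ntl) 19 (idTasks.getD 144 ([], [])) = true := by decide +kernel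
theorem idT145 : eqChk (ntOf ntl) 19 (idTasks.getD 145 ([], [])) = true := by decide +kernel
theorem idT146 : eqChk (ntOf ntl) 19 (idTasks.getD 146 ([], [])) = true := by decide +kernel
theorem idT147 : eqChk (ntOf ntl) 19 (idTasks.getD 147 ([], [])) = true := by decide +kernel
theorem idT148 : eqChk (ntOf ntl) 19 (idTasks.getD 148 ([], [])) = true := by decide +kernel
theorem idT149 : eqChk (ntOf ntl) 19 (idTasks.getD 149 ([], [])) = true := by decide +kernel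
theorem idT150 : eqChk (ntOf ntl) 19 (idTasks.getD 150 ([], [])) = true := by decide +kernel
theorem idT151 : eqChk (ntOf ntl) 19 (idTasks.getD 151 ([], [])) = true := by decide +kernel
theorem idT152 : eqChk (ntOf ntl) 19 (idTasks.getD 152 ([], [])) = true := by decide +kernel
theorem idT153 : eqChk (ntOf ntl) 19 (idTasks.getD 153 ([], [])) = true := by decide +kernel
theorem idT154 : eqChk (ntOf ntl) 19 (idTasks.getD 154 ([], [])) = true := by decide +kernel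
theorem idT155 : eqChk (ntOf ntl) 19 (idTasks.getD 155 ([], [])) = true := by decide +kernel
theorem idT156 : eqChk (ntOf ntl) 19 (idTasks.getD 156 ([], [])) = true := by decide +kernel
theorem idT157 : eqChk (ntOf ntl) 19 (idTasks.getD 157 ([], [])) = true := by decide +kernel
theorem idT158 : eqChk (ntOf ntl) 19 (idTasks.getD 158 ([], [])) = true := by decide +kernel
theorem idT159 : eqChk (ntOf ntl) 19 (idTasks.getD 159 ([], [])) = true := by decide +kernel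
theorem idT160 : eqChk (ntOf ntl) 19 (idTasks.getD 160 ([], [])) = true := by decide +kernel
theorem idT161 : eqChk (ntOf ntl) 19 (idTasks.getD 161 ([], [])) = true := by decide +kernel
theorem idT162 : eqChk (ntOf ntl) 19 (idTasks.getD 162 ([], [])) = true := by decide +kernel
theorem idT163 : eqChk (ntOf ntl) 19 (idTasks.getD 163 ([], [])) = true := by decide +kernel
theorem idT164 : eqChk (ntOf ntl) 19 (idTasks.getD 164 ([], [])) = true := by decide +kernel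
theorem idT165 : eqChk (ntOf ntl) 19 (idTasks.getD 165 ([], [])) = true := by decide +kernel
theorem idT166 : eqChk (ntOf ntl) 19 (idTasks.getD 166 ([], [])) = true := by decide +kernel
theorem idT167 : eqChk (ntOf ntl) 19 (idTasks.getD 167 ([], [])) = true := by decide +kernel
theorem idT168 : eqChk (ntOf ntl) 19 (idTasks.getD 168 ([], [])) = true := by decide +kernel
theorem idT169 : eqChk (ntOf ntl) 19 (idTasks.getD 169 ([], [])) = true := by decide +kernel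
theorem idT170 : eqChk (ntOf ntl) 19 (idTasks.getD 170 ([], [])) = true := by decide +kernel
theorem idT171 : eqChk (ntOf ntl) 19 (idTasks.getD 171 ([], [])) = true := by decide +kernel
theorem idT172 : eqChk (ntOf ntl) 19 (idTasks.getD 172 ([], [])) = true := by decide +kernel
theorem idT173 : eqChk (ntOf ntl) 19 (idTasks.getD 173 ([], [])) = true := by decide +kernel
theorem idT174 : eqChk (ntOf ntl) 19 (idTasks.getD 174 ([], [])) = true := by decide +kernel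
theorem idTall : ∀ i < idTasks.length, eqChk (ntOf ntl) 19 (idTasks.getD i ([], [])) = true := by
  intro i hi
  have hlen : idTasks.length = 175 := by decide +kernel
  rw [hlen] at hi
  interval_cases i
  · exact idT0
  · exact idT1
  · exact idT2
  · exact idT3
  · exact idT4
  · exact idT5
  · exact idT6
  · exact idT7
  · exact idT8
  · exact idT9
  · exact idT10
  · exact idT11
  · exact idT12
  · exact idT13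
  · exact idT14
  · exact idT15
  · exact idT16
  · exact idT17
  · exact idT18
  · exact idT19
  · exact idT20
  · exact idT21
  · exact idT22
  · exact idT23
  · exact idT24
  · exact idT25
  · exact idT26
  · exact idT27
  · exact idT28
  · exact idT29
  · exact idT30
  · exact idT31
  · exact idT32
  · exact idT33
  · exact idT34
  · exact idT35
  · exact idT36
  · exact idT37
  · exact idT38
  · exact idT39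
  · exact idT40
  · exact idT41
  · exact idT42
  · exact idT43
  · exact idT44
  · exact idT45
  · exact idT46
  · exact idT47
  · exact idT48
  · exact idT49
  · exact idT50
  · exact idT51
  · exact idT52
  · exact idT53
  · exact idT54
  · exact idT55
  · exact idT56
  · exact idT57
  · exact idT58
  · exact idT59
  · exact idT60
  · exact idT61
  · exact idT62
  · exact idT63
  · exact idT64
  · exact idT65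
  · exact idT66
  · exact idT67
  · exact idT68
  · exact idT69
  · exact idT70
  · exact idT71
  · exact idT72
  · exact idT73
  · exact idT74
  · exact idT75
  · exact idT76
  · exact idT77
  · exact idT78
  · exact idT79
  · exact idT80
  · exact idT81
  · exact idT82
  · exact idT83
  · exact idT84
  · exact idT85
  · exact idT86
  · exact idT87
  · exact idT88
  · exact idT89
  · exact idT90
  · exact idT91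
  · exact idT92
  · exact idT93
  · exact idT94
  · exact idT95
  · exact idT96
  · exact idT97
  · exact idT98
  · exact idT99
  · exact idT100
  · exact idT101
  · exact idT102
  · exact idT103
  · exact idT104
  · exact idT105
  · exact idT106
  · exact idT107
  · exact idT108
  · exact idT109
  · exact idT110
  · exact idT111
  · exact idT112
  · exact idT113
  · exact idT114
  · exact idT115
  · exact idT116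
  · exact idT117
  · exact idT118
  · exact idT119
  · exact idT120
  · exact idT121
  · exact idT122
  · exact idT123
  · exact idT124
  · exact idT125
  · exact idT126
  · exact idT127
  · exact idT128
  · exact idT129
  · exact idT130
  · exact idT131
  · exact idT132
  · exact idT133
  · exact idT134
  · exact idT135
  · exact idT136
  · exact idT137
  · exact idT138
  · exact idT139
  · exact idT140
  · exact idT141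
  · exact idT142
  · exact idT143
  · exact idT144
  · exact idT145
  · exact idT146
  · exact idT147
  · exact idT148
  · exact idT149
  · exact idT150
  · exact idT151
  · exact idT152
  · exact idT153
  · exact idT154
  · exact idT155
  · exact idT156
  · exact idT157
  · exact idT158
  · exact idT159
  · exact idT160
  · exact idT161
  · exact idT162
  · exact idT163
  · exact idT164
  · exact idT165
  · exact idT166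
  · exact idT167
  · exact idT168
  · exact idT169
  · exact idT170
  · exact idT171
  · exact idT172
  · exact idT173
  · exact idT174
theorem idOK : (baseWords edges code nodes INVm 12 extraE []).all (wordId (ntOf ntl) 19) = true :=
  all_wordId_of_eqs _ _ _ (eqs_of_tasks _ _ _ idTasks idTall (by decide +kernel))
theorem hfix0 : fixChk (ntOf ntl) (hExps.map (fun e => e.letters INVm)) 0 1 = true := by decide +kernel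
theorem htr : growChk (ntOf ntl) (gExps.map (fun e => e.letters INVm)) 9 0 0 306936 = true := by
  decide +kernel
theorem invnOK : fixChk (ntOf ntl) (gExps.map (fun e => e.letters INVm)) 0 306936 = true := by
  decide +kernel

theorem hwords : ∀ r ∈ baseWords edges code nodes INVm 12 extraE [],
    (r.map fun l => netPerm (ntOf ntl l)).prod = 1 :=
  model_words edges code nodes INVm 12 extraE ntl 19 netsOK idOK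
theorem hinvN : ∀ l, netPerm (ntOf ntl (invL INVm l)) = (netPerm (ntOf ntl l))⁻¹ :=
  model_inv edges code nodes INVm 12 extraE ntl hwords (by decide +kernel) rfl (by norm_num)
  (by decide +kernel) (by decide +kernel)
theorem hLTF : ∀ l, FreeGroup.lift (fun x => netPerm (ntOf ntl (code x))) (LTFm.getD l 1) =
      netPerm (ntOf ntl l) := by
  apply hLTF_of LTFm code 12 ntl rfl (by decide +kernel)
  intro l hl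
  interval_cases l
  · exact (map_one _).trans netPerm_nil.symm
  · exact FreeGroup.lift_apply_of
  · exact FreeGroup.lift_apply_of
  · exact FreeGroup.lift_apply_of
  · exact FreeGroup.lift_apply_of
  · exact FreeGroup.lift_apply_of
  · exact FreeGroup.lift_apply_of
  · exact FreeGroup.lift_apply_of
  · exact FreeGroup.lift_apply_of
  · exact FreeGroup.lift_apply_of
  · exact FreeGroup.lift_apply_of
  · exact FreeGroup.lift_apply_of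
  · exact FreeGroup.lift_apply_of
theorem hrels : ∀ r ∈ coxRelators edges ∪ {r | r ∈ extra},
    FreeGroup.lift (fun x => netPerm (ntOf ntl (code x))) r = 1 :=
  model_rels edges extra LTFm code nodes INVm 12 extraE ntl hwords hinvN (by decide)
  (by
    intro r hr
    have : extraE.map (fun e => e.eval (fun l => LTFm.getD l 1)) = extra := rfl
    rw [← this] at hr
    obtain ⟨e, he, h⟩ := List.mem_map.1 hr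
    exact ⟨e, he, h⟩) hLTF

/-- the permutation representation -/
noncomputable def psi : Cfsg.Spor.Fi24 →* Equiv.Perm ℕ :=
  PresentedGroup.toGroup (f := fun x => netPerm (ntOf ntl (code x))) hrels

theorem psi_eval (e : WExp) :
    psi (PresentedGroup.mk (coxRelators edges ∪ {r | r ∈ extra}) (e.eval (fun l => LTFm.getD l 1))) =
      wordPerm (ntOf ntl) (e.letters INVm) :=
  lift_eval LTFm code INVm ntl hinvN hLTF e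

theorem hS1 : ∀ s ∈ ({a, b, c, d, e, f, g, h, i, j, l} : Set (FreeGroup Gen)), ∃ ex ∈ hExps, ex.eval (fun n => LTFm.getD n 1) = s := by
  intro s hs
  simp only [Set.mem_insert_iff, Set.mem_singleton_iff] at hs
  rcases hs with rfl | rfl | rfl | rfl | rfl | rfl | rfl | rfl | rfl | rfl | rfl
  · exact ⟨(.l 3), by simp [hExps], rfl⟩
  · exact ⟨(.l 4), by simp [hExps], rfl⟩
  · exact ⟨(.l 5), by simp [hExps], rfl⟩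
  · exact ⟨(.l 6), by simp [hExps], rfl⟩
  · exact ⟨(.l 7), by simp [hExps], rfl⟩
  · exact ⟨(.l 8), by simp [hExps], rfl⟩
  · exact ⟨(.l 9), by simp [hExps], rfl⟩
  · exact ⟨(.l 11), by simp [hExps], rfl⟩
  · exact ⟨(.l 12), by simp [hExps], rfl⟩
  · exact ⟨(.l 10), by simp [hExps], rfl⟩
  · exact ⟨(.l 1), by simp [hExps], rfl⟩

theorem hS2 : ∀ ex ∈ hExps, ex.eval (fun n => LTFm.getD n 1) ∈ ({a, b, c, d, e, f, g, h, i, j, l} : Set (FreeGroup Gen)) := by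
  intro ex he
  simp only [hExps, List.mem_cons, List.mem_nil_iff, or_false] at he
  rcases he with rfl | rfl | rfl | rfl | rfl | rfl | rfl | rfl | rfl | rfl | rfl <;> simp [WExp.eval, LTFm]

theorem hgenTop : Subgroup.closure {t : Cfsg.Spor.Fi24 | ∃ e ∈ gExps, t =
    PresentedGroup.mk (coxRelators edges ∪ {r | r ∈ extra}) (e.eval (fun n => LTFm.getD n 1))} = ⊤ := by
  rw [eq_top_iff, ← PresentedGroup.closure_range_of]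
  apply Subgroup.closure_mono
  rintro _ ⟨x, rfl⟩
  cases x
  · exact ⟨.l 1, by simp [gExps], rfl⟩
  · exact ⟨.l 2, by simp [gExps], rfl⟩
  · exact ⟨.l 3, by simp [gExps], rfl⟩
  · exact ⟨.l 4, by simp [gExps], rfl⟩
  · exact ⟨.l 5, by simp [gExps], rfl⟩
  · exact ⟨.l 6, by simp [gExps], rfl⟩
  · exact ⟨.l 7, by simp [gExps], rfl⟩
  · exact ⟨.l 8, by simp [gExps], rfl⟩
  · exact ⟨.l 9, by simp [gExps], rfl⟩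
  · exact ⟨.l 10, by simp [gExps], rfl⟩
  · exact ⟨.l 11, by simp [gExps], rfl⟩
  · exact ⟨.l 12, by simp [gExps], rfl⟩

theorem hgen (g : Cfsg.Spor.Fi24) : g ∈ Subgroup.closure {t : Cfsg.Spor.Fi24 | ∃ e ∈ gExps, t =
    PresentedGroup.mk (coxRelators edges ∪ {r | r ∈ extra}) (e.eval (fun n => LTFm.getD n 1))} := by
  rw [hgenTop]; exact Subgroup.mem_top g


end Cfsg.Agent.Lib.Helper11.Fi24o
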