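import Cfsg.Agent.Lib.Helper11.Fi24o.Model
import Cfsg.Agent.Lib.Helper11.SimpleModel
import Cfsg.Agent.Lib.Helper11.Chunk

set_option autoImplicit false
set_option maxRecDepth 100000

namespace Cfsg.Agent.Lib.Helper11.Fi24o

open Cfsg.Spor Cfsg.Spor.Fi24 Cfsg.Agent.Lib.Helper11.Fi24a

set_option maxHeartbeats 0
set_option Elab.async false

def px0 : ℕ × ℕ × WExp × ℕ := (275264, 8, (.l 2), 9)
def px1 : ℕ × ℕ × WExp × ℕ := (31671, 9, (.mul (.l 2) (.mul (.l 3) (.mul (.l 1) (.l 2)))), 9)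
def primL : List (ℕ × ℕ × WExp × ℕ) := [px0, px1]
theorem pg0 : growChk (ntOf ntl) (hExps.map (fun e => e.letters INVm)) px0.2.1 (1) (1) px0.1 = true := by decide +kernel
theorem pm0 : mapChk (ntOf ntl) (px0.2.2.1.letters INVm) 0 (1) = true := by decide +kernel
theorem ph0 : growChk (ntOf ntl) (px0.2.2.1.letters INVm :: (hExps.map (fun e => e.letters INVm))) px0.2.2.2 0 0 306936 = true := by decide +kernel
theorem pg1 : growChk (ntOf ntl) (hExps.map (fun e => e.letters INVm)) px1.2.1 (1 + px0.1) (1 + px0.1) px1.1 = true := by decide +kernel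
theorem pm1 : mapChk (ntOf ntl) (px1.2.2.1.letters INVm) 0 (1 + px0.1) = true := by decide +kernel
theorem ph1 : growChk (ntOf ntl) (px1.2.2.1.letters INVm :: (hExps.map (fun e => e.letters INVm))) px1.2.2.2 0 0 306936 = true := by decide +kernel
theorem primOK : primChk (ntOf ntl) INVm (hExps.map (fun e => e.letters INVm)) 306936 1 primL = true :=
  (primChk_cons _ _ _ _ _ px0 _ pg0 pm0 ph0
  (primChk_cons _ _ _ _ _ px1 _ pg1 pm1 ph1
  (by decide +kernel)))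
def tE : WExp := .l 1
def nrmTasks : List (List (List ℕ × List ℕ) × List ℕ) := [
  ([([3, 1], [1, 3])], [0, 1, 2, 3, 4, 5, 6, 7, 8, 9, 10, 11, 12, 13, 14, 15, 16, 17, 18]),
  ([([4, 1], [1, 4])], [0, 1, 2, 3, 4, 5, 6, 7, 8, 9, 10, 11, 12, 13, 14, 15, 16, 17, 18]),
  ([([5, 1], [1, 5])], [0, 1, 2, 3, 4, 5, 6, 7, 8, 9, 10, 11, 12, 13, 14, 15, 16, 17, 18]),
  ([([6, 1], [1, 6])], [0, 1, 2, 3, 4, 5, 6, 7, 8, 9, 10, 11, 12, 13, 14, 15, 16, 17, 18]),
  ([([7, 1], [1, 7])], [0, 1, 2, 3, 4, 5, 6, 7, 8, 9, 10, 11, 12, 13, 14, 15, 16, 17, 18]),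
  ([([8, 1], [1, 8])], [0, 1, 2, 3, 4, 5, 6, 7, 8, 9, 10, 11, 12, 13, 14, 15, 16, 17, 18]),
  ([([9, 1], [1, 9])], [0, 1, 2, 3, 4, 5, 6, 7, 8, 9, 10, 11, 12, 13, 14, 15, 16, 17, 18]),
  ([([11, 1], [1, 11])], [0, 1, 2, 3, 4, 5, 6, 7, 8, 9, 10, 11, 12, 13, 14, 15, 16, 17, 18]),
  ([([12, 1], [1, 12])], [0, 1, 2, 3, 4, 5, 6, 7, 8, 9, 10, 11, 12, 13, 14, 15, 16, 17, 18]),
  ([([10, 1], [1, 10])], [0, 1, 2, 3, 4, 5, 6, 7, 8, 9, 10, 11, 12, 13, 14, 15, 16, 17, 18]),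
  ([([1, 1], [1, 1])], [0, 1, 2, 3, 4, 5, 6, 7, 8, 9, 10, 11, 12, 13, 14, 15, 16, 17, 18])]
theorem nrmT0 : eqChk (ntOf ntl) 19 (nrmTasks.getD 0 ([], [])) = true := by decide +kernel
theorem nrmT1 : eqChk (ntOf ntl) 19 (nrmTasks.getD 1 ([], [])) = true := by decide +kernel
theorem nrmT2 : eqChk (ntOf ntl) 19 (nrmTasks.getD 2 ([], [])) = true := by decide +kernel
theorem nrmT3 : eqChk (ntOf ntl) 19 (nrmTasks.getD 3 ([], [])) = true := by decide +kernel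
theorem nrmT4 : eqChk (ntOf ntl) 19 (nrmTasks.getD 4 ([], [])) = true := by decide +kernel
theorem nrmT5 : eqChk (ntOf ntl) 19 (nrmTasks.getD 5 ([], [])) = true := by decide +kernel
theorem nrmT6 : eqChk (ntOf ntl) 19 (nrmTasks.getD 6 ([], [])) = true := by decide +kernel
theorem nrmT7 : eqChk (ntOf ntl) 19 (nrmTasks.getD 7 ([], [])) = true := by decide +kernel
theorem nrmT8 : eqChk (ntOf ntl) 19 (nrmTasks.getD 8 ([], [])) = true := by decide +kernel
theorem nrmT9 : eqChk (ntOf ntl) 19 (nrmTasks.getD 9 ([], [])) = true := by decide +kernel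
theorem nrmT10 : eqChk (ntOf ntl) 19 (nrmTasks.getD 10 ([], [])) = true := by decide +kernel
theorem nrmTall : ∀ i < nrmTasks.length, eqChk (ntOf ntl) 19 (nrmTasks.getD i ([], [])) = true := by
  intro i hi
  have hlen : nrmTasks.length = 11 := by decide +kernel
  rw [hlen] at hi
  interval_cases i
  · exact nrmT0
  · exact nrmT1
  · exact nrmT2
  · exact nrmT3
  · exact nrmT4
  · exact nrmT5
  · exact nrmT6
  · exact nrmT7
  · exact nrmT8
  · exact nrmT9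
  · exact nrmT10
theorem normOK : normChk (ntOf ntl) 19 (hExps.map (fun e => e.letters INVm)) (tE.letters INVm)
    ((WExp.inv tE).letters INVm) = true :=
  normChk_of_eqs _ _ _ _ _ (eqs_of_tasks _ _ _ nrmTasks nrmTall (by decide +kernel))


end Cfsg.Agent.Lib.Helper11.Fi24o
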